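import Cfsg.Agent.RuStandard47.Defs

/-!
The small kernel checks.
-/

set_option autoImplicit false
set_option maxRecDepth 100000

namespace Cfsg.Agent.RuStandard47

open Cfsg.Agent.CosetEnum Cfsg.Agent.SylowTail Cfsg.Agent.SporB.Ru
open Cfsg.Agent.RuMult82 (cert expand small)

theorem cert2_shape : cert2.shapeOK = true ∧ centralOK cert2 = true := by decide +kernel

theorem rels_ok : relsOK = true ∧ centralRelsOK = true := by decide +kernel

theorem words_small : conjWords.all small = true := by decide +kernel

theorem fus_ok : teqs.all fusOK = true := by decide +kernel

theorem fuse_ok : fuseList.all fuseOK = true := by decide +kernel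

theorem invFinal_ok : invFinalOK = true := by decide +kernel

theorem cenList_ok : cenListOK = true := by decide +kernel

theorem rootFinal_ok : rootFinalOK = true := by decide +kernel

theorem comm_ok : commGens 0 3 = true ∧ commGens 3 6 = true := by decide +kernel

/-- The equations of one witness. -/
def witOK (x : List ℕ × List ℕ × List ℕ × List ℕ × List ℕ × List ℕ) : Bool :=
  match x with
  | (a, b, c, t, u, v) =>
    match nform cert2 (a ++ b), nform cert2 (b ++ a ++ t), nform cert2 (t ++ c),
        nform cert2 (c ++ t ++ u), nform cert2 (u ++ u) with
    | some p, some q, some p', some q', some s => p == q && p' == q' && s == v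
    | _, _, _, _, _ => false

theorem wits_ok : wits.all witOK = true := by decide +kernel

end Cfsg.Agent.RuStandard47
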