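import Cfsg.Agent.RuStandard47.Defs

/-!
The kernel checks of the inv search.
-/

set_option autoImplicit false
set_option maxRecDepth 100000

namespace Cfsg.Agent.RuStandard47

open Cfsg.Agent.CosetEnum Cfsg.Agent.SylowTail Cfsg.Agent.SporB.Ru
open Cfsg.Agent.RuMult82 (cert expand small)

theorem invSteps_a : (List.range' 0 9).all (fun k =>
    stepOK cert2 [] k (invLev k) (invMoves k) (invLev (k + 1))) = true := by decide +kernel

theorem invSteps_b : (List.range' 9 3).all (fun k =>
    stepOK cert2 [] k (invLev k) (invMoves k) (invLev (k + 1))) = true := by decide +kernel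

theorem invSteps_c : (List.range' 12 3).all (fun k =>
    stepOK cert2 [] k (invLev k) (invMoves k) (invLev (k + 1))) = true := by decide +kernel

theorem invSteps_ok : ∀ k, k < 15 →
    stepOK cert2 [] k (invLev k) (invMoves k) (invLev (k + 1)) = true := by
  intro k hk
  have ha := List.all_eq_true.mp invSteps_a k
  have hb := List.all_eq_true.mp invSteps_b k
  have hc := List.all_eq_true.mp invSteps_c k
  simp only [List.mem_range'_1] at ha hb hc
  rcases Nat.lt_or_ge k 9 with h | h
  · exact ha ⟨by omega, by omega⟩
  rcases Nat.lt_or_ge k 12 with h' | h'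
  · exact hb ⟨by omega, by omega⟩
  · exact hc ⟨by omega, by omega⟩

end Cfsg.Agent.RuStandard47
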