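import Cfsg.Agent.RuStandard47.Defs

/-!
The kernel check of the tails.
-/

set_option autoImplicit false
set_option maxRecDepth 100000

namespace Cfsg.Agent.RuStandard47

open Cfsg.Agent.CosetEnum Cfsg.Agent.SylowTail Cfsg.Agent.SporB.Ru
open Cfsg.Agent.RuMult82 (cert expand small)

theorem tails_ok : (List.range cert.rels.length).all (tailOK (teqs.map eqv)) = true := by
  decide +kernel

end Cfsg.Agent.RuStandard47
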