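import Cfsg.Agent.RuStandard47.PcTree

/-!
The later generators of a presented two-group form normal terms with central quotients.
-/

set_option autoImplicit false

namespace Cfsg.Agent.RuStandard47

open Cfsg.Agent.CosetEnum Cfsg.Agent.SylowTail

variable {E : Type} [Group E] [Finite E] {D : Data} (hs : D.shapeOK = true) {X g : ℕ → E}
  (H : Holds D X g) (hcn : centralOK D = true)
include hs H

theorem high_top {m : E} (hm : m ∈ high D X (⊥ : Subgroup E) D.n) : m = 1 := by
  rw [← SetLike.mem_coe, ← vals_eq_high hs H D.n le_rfl] at hm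
  obtain ⟨u, hu, rfl⟩ := hm
  cases u with
  | nil => rfl
  | cons b v => exact absurd (hu.2 b (by simp)) (by omega)

theorem modk_top {a : E} {u : List ℕ} (h : Modk D X D.n a u) : a = evalWord X u := by
  obtain ⟨-, -, m, hm, e⟩ := h
  rw [e, high_top hs H hm, mul_one]

include hcn

theorem conj_high {k : ℕ} {c m : E} (hc : c ∈ sub D X) (hm : m ∈ high D X (⊥ : Subgroup E) k) :
    c⁻¹ * m * c ∈ high D X (⊥ : Subgroup E) k := by
  obtain ⟨u, ⟨nu, bu, m0, hm0, e⟩, -⟩ := modk_exists hs H (k := k) hc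
  obtain ⟨m', hm', e'⟩ := past_word hs H hcn (fun b hb => ⟨bu b hb, (nu.2 b hb).2⟩) hm
  have : c⁻¹ * m * c = m0⁻¹ * m' * m0 := by
    rw [e, show (evalWord X u * m0)⁻¹ * m * (evalWord X u * m0) =
      m0⁻¹ * (evalWord X u)⁻¹ * (m * evalWord X u) * m0 by group, e']
    group
  rw [this]
  exact mul_mem (mul_mem (inv_mem_high hs H hm0) hm') hm0

/-- Elements from `k` on commute with all modulo those from `k'` on. -/
theorem comm_high {k k' : ℕ}
    (h : ∀ s < k', k ≤ s → ∀ t < k', ∃ p q, nfT D k' [s, t] = some p ∧ nfT D k' [t, s] = some q ∧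
      p = q) {a b : E} (ha : a ∈ high D X (⊥ : Subgroup E) k) (hb : b ∈ sub D X) :
    ∃ m ∈ high D X (⊥ : Subgroup E) k', a * b = b * a * m := by
  have gens : ∀ s, k ≤ s → s < D.n → ∀ t < D.n,
      ∃ m ∈ high D X (⊥ : Subgroup E) k', X s * X t = X t * X s * m := by
    intro s hks hsn t htn
    by_cases hs' : k' ≤ s
    · refine ⟨(X s)⁻¹ * ((X t)⁻¹ * X s * X t), mul_mem (inv_mem_high hs H (gen_mem_high hs' hsn))
        (conj_high hs H hcn (Subgroup.subset_closure ⟨t, htn, rfl⟩) (gen_mem_high hs' hsn)), by group⟩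
    by_cases ht' : k' ≤ t
    · refine ⟨(X s)⁻¹ * (X t)⁻¹ * X s * X t, mul_mem (conj_high hs H hcn
        (Subgroup.subset_closure ⟨s, hsn, rfl⟩) (inv_mem_high hs H (gen_mem_high ht' htn)))
        (gen_mem_high ht' htn), by group⟩
    obtain ⟨p, q, hp, hq, rfl⟩ := h s (by omega) hks t (by omega)
    obtain ⟨-, -, m1, hm1, e1⟩ := nfT_sound hs H hcn (by simp [hsn, htn]) hp
    obtain ⟨-, -, m2, hm2, e2⟩ := nfT_sound hs H hcn (by simp [hsn, htn]) hq
    simp only [evalWord, mul_one] at e1 e2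
    refine ⟨m2⁻¹ * m1, mul_mem (inv_mem_high hs H hm2) hm1, ?_⟩
    rw [e1, e2]
    group
  obtain ⟨v, hv, rfl⟩ : ∃ v, D.Norm 0 v ∧ b = evalWord X v := by
    obtain ⟨-, -, v, hv, e, -⟩ := modk_exists hs H (k := 0) hb
    exact ⟨v, hv, e⟩
  have right : ∀ {a : E}, (∀ t < D.n, ∃ m ∈ high D X (⊥ : Subgroup E) k', a * X t = X t * a * m) →
      ∀ {v : List ℕ}, (∀ c ∈ v, c < D.n) →
        ∃ m ∈ high D X (⊥ : Subgroup E) k', a * evalWord X v = evalWord X v * a * m := by
    intro a hgen v
    induction v with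
    | nil => intro _; exact ⟨1, one_mem _, by simp [evalWord]⟩
    | cons c v ih =>
      intro hv
      obtain ⟨m1, hm1, e1⟩ := hgen c (hv c (by simp))
      obtain ⟨m2, hm2, e2⟩ := ih fun d hd => hv d (List.mem_cons_of_mem _ hd)
      refine ⟨m2 * ((evalWord X v)⁻¹ * m1 * evalWord X v), mul_mem hm2 (conj_high hs H hcn
        (eval_mem_sub H fun d hd => hv d (List.mem_cons_of_mem _ hd)) hm1), ?_⟩
      show a * (X c * evalWord X v) = X c * evalWord X v * a * _
      rw [← mul_assoc, e1, show X c * a * m1 * evalWord X v =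
        X c * (a * evalWord X v) * ((evalWord X v)⁻¹ * m1 * evalWord X v) by group, e2]
      group
  refine right ?_ fun c hc => (hv.2 c hc).2
  intro t htn
  have hsub : ∀ e ∈ high D X (⊥ : Subgroup E) k, e ∈ sub D X := fun e he => by
    induction he using Submonoid.closure_induction with
    | mem e he =>
      rcases he with ⟨j, -, hj, rfl⟩ | he
      · exact Subgroup.subset_closure ⟨j, hj, rfl⟩
      · rw [Subgroup.mem_bot.mp he]; exact one_mem _
    | one => exact one_mem _
    | mul x y _ _ hx hy => exact mul_mem hx hy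
  induction ha using Submonoid.closure_induction with
  | mem e he =>
    rcases he with ⟨j, hkj, hj, rfl⟩ | he
    · exact gens j hkj hj t htn
    · exact ⟨1, one_mem _, by rw [Subgroup.mem_bot.mp he]; simp⟩
  | one => exact ⟨1, one_mem _, by simp⟩
  | mul x y hx hy ihx ihy =>
    obtain ⟨m1, hm1, e1⟩ := ihx
    obtain ⟨m2, hm2, e2⟩ := ihy
    refine ⟨(y⁻¹ * m1 * y) * m2, mul_mem (conj_high hs H hcn (hsub y hy) hm1) hm2, ?_⟩
    rw [mul_assoc x y, e2, show x * (X t * y * m2) = x * X t * y * m2 by group, e1]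
    group

end Cfsg.Agent.RuStandard47
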