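import Cfsg.Agent.RuMult82.Data

/-!
Data for the double cover of the Rudvalis group: the polycyclic presentation of a Sylow 2-subgroup,
the equations determining it and the fusion of its involutions.
-/

set_option autoImplicit false
set_option maxRecDepth 100000

namespace Cfsg.Agent.RuStandard47

/-- An equation between the tails. -/
inductive TEq where
  /-- a word collected twice -/
  | cons (w : List ℕ)
  /-- two conjugate involutions -/
  | sq (j : ℕ) (u v : List ℕ)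
  /-- two commuting pairs moved by one element -/
  | com (j : ℕ) (s1 s2 d1 d2 : List ℕ)

/-- Part 0 of relations of the cover. -/
def relsC0 : List (List ℕ × List ℕ) :=
  [([0, 0], [4, 14]),
    ([1, 1], [5, 14]),
    ([2, 2], []),
    ([3, 3], [8, 12, 13]),
    ([4, 4], []),
    ([5, 5], [11]),
    ([6, 6], [12, 14]),
    ([7, 7], [13, 14]),
    ([8, 8], []),
    ([9, 9], []),
    ([10, 10], []),
    ([11, 11], []),
    ([12, 12], []),
    ([13, 13], []),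
    ([14, 14], [])]

/-- Part 1 of relations of the cover. -/
def relsC1 : List (List ℕ × List ℕ) :=
  [([1, 0], [0, 1, 3, 5, 7, 8, 10, 11, 13]),
    ([2, 0], [0, 2, 4, 10, 13]),
    ([3, 0], [0, 3, 6, 7, 8, 11, 12, 13, 14]),
    ([4, 0], [0, 4]),
    ([5, 0], [0, 5, 7]),
    ([6, 0], [0, 6, 8, 9, 11, 12, 13]),
    ([7, 0], [0, 7, 9, 10, 12, 13, 14]),
    ([8, 0], [0, 8, 10, 13, 14]),
    ([9, 0], [0, 9, 10, 13]),
    ([10, 0], [0, 10]),
    ([11, 0], [0, 11, 12]),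
    ([12, 0], [0, 12, 13]),
    ([13, 0], [0, 13]),
    ([14, 0], [0, 14]),
    ([2, 1], [1, 2, 3])]

/-- Part 2 of relations of the cover. -/
def relsC2 : List (List ℕ × List ℕ) :=
  [([3, 1], [1, 3, 7, 8, 14]),
    ([4, 1], [1, 4, 6]),
    ([5, 1], [1, 5]),
    ([6, 1], [1, 6, 9, 10, 14]),
    ([7, 1], [1, 7, 9, 14]),
    ([8, 1], [1, 8, 10, 11, 12, 14]),
    ([9, 1], [1, 9, 12, 13, 14]),
    ([10, 1], [1, 10, 11]),
    ([11, 1], [1, 11]),
    ([12, 1], [1, 12, 13]),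
    ([13, 1], [1, 13]),
    ([14, 1], [1, 14]),
    ([3, 2], [2, 3, 8, 12, 13]),
    ([4, 2], [2, 4]),
    ([5, 2], [2, 5, 7])]

/-- Part 3 of relations of the cover. -/
def relsC3 : List (List ℕ × List ℕ) :=
  [([6, 2], [2, 6, 8, 14]),
    ([7, 2], [2, 7, 13, 14]),
    ([8, 2], [2, 8]),
    ([9, 2], [2, 9, 10]),
    ([10, 2], [2, 10]),
    ([11, 2], [2, 11, 12]),
    ([12, 2], [2, 12]),
    ([13, 2], [2, 13]),
    ([14, 2], [2, 14]),
    ([4, 3], [3, 4, 8]),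
    ([5, 3], [3, 5, 9, 10, 11, 14]),
    ([6, 3], [3, 6, 14]),
    ([7, 3], [3, 7, 10, 11]),
    ([8, 3], [3, 8]),
    ([9, 3], [3, 9, 11, 12, 13])]

/-- Part 4 of relations of the cover. -/
def relsC4 : List (List ℕ × List ℕ) :=
  [([10, 3], [3, 10, 12, 13]),
    ([11, 3], [3, 11, 13]),
    ([12, 3], [3, 12]),
    ([13, 3], [3, 13]),
    ([14, 3], [3, 14]),
    ([5, 4], [4, 5, 9, 10, 12]),
    ([6, 4], [4, 6, 12, 14]),
    ([7, 4], [4, 7, 10]),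
    ([8, 4], [4, 8]),
    ([9, 4], [4, 9]),
    ([10, 4], [4, 10]),
    ([11, 4], [4, 11, 13]),
    ([12, 4], [4, 12]),
    ([13, 4], [4, 13]),
    ([14, 4], [4, 14])]

/-- Part 5 of relations of the cover. -/
def relsC5 : List (List ℕ × List ℕ) :=
  [([6, 5], [5, 6, 11, 12, 13, 14]),
    ([7, 5], [5, 7, 12, 13, 14]),
    ([8, 5], [5, 8, 11, 13]),
    ([9, 5], [5, 9, 13]),
    ([10, 5], [5, 10]),
    ([11, 5], [5, 11]),
    ([12, 5], [5, 12]),
    ([13, 5], [5, 13]),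
    ([14, 5], [5, 14]),
    ([7, 6], [6, 7, 11, 13]),
    ([8, 6], [6, 8]),
    ([9, 6], [6, 9]),
    ([10, 6], [6, 10, 13]),
    ([11, 6], [6, 11]),
    ([12, 6], [6, 12])]

/-- Part 6 of relations of the cover. -/
def relsC6 : List (List ℕ × List ℕ) :=
  [([13, 6], [6, 13]),
    ([14, 6], [6, 14]),
    ([8, 7], [7, 8, 12]),
    ([9, 7], [7, 9]),
    ([10, 7], [7, 10]),
    ([11, 7], [7, 11]),
    ([12, 7], [7, 12]),
    ([13, 7], [7, 13]),
    ([14, 7], [7, 14]),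
    ([9, 8], [8, 9, 13]),
    ([10, 8], [8, 10]),
    ([11, 8], [8, 11]),
    ([12, 8], [8, 12]),
    ([13, 8], [8, 13]),
    ([14, 8], [8, 14])]

/-- Part 7 of relations of the cover. -/
def relsC7 : List (List ℕ × List ℕ) :=
  [([10, 9], [9, 10]),
    ([11, 9], [9, 11]),
    ([12, 9], [9, 12]),
    ([13, 9], [9, 13]),
    ([14, 9], [9, 14]),
    ([11, 10], [10, 11]),
    ([12, 10], [10, 12]),
    ([13, 10], [10, 13]),
    ([14, 10], [10, 14]),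
    ([12, 11], [11, 12]),
    ([13, 11], [11, 13]),
    ([14, 11], [11, 14]),
    ([13, 12], [12, 13]),
    ([14, 12], [12, 14]),
    ([14, 13], [13, 14])]

/-- The relations of the cover. -/
def rels : List (List ℕ × List ℕ) :=
  relsC0 ++ relsC1 ++ relsC2 ++ relsC3 ++ relsC4 ++ relsC5 ++ relsC6 ++ relsC7

/-- Part 0 of tails. -/
def tailsC0 : List (Bool) :=
  [true,
    true,
    false,
    false,
    false,
    false,
    true,
    true,
    false,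
    false,
    false,
    false,
    false,
    false,
    false,
    false,
    true,
    false,
    false,
    false,
    true,
    true,
    false,
    false,
    false,
    false,
    false,
    false,
    true,
    false,
    false,
    true,
    true,
    true,
    true,
    false,
    false,
    false,
    false,
    false]

/-- Part 1 of tails. -/
def tailsC1 : List (Bool) :=
  [false,
    false,
    true,
    true,
    false,
    false,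
    false,
    false,
    false,
    false,
    false,
    true,
    true,
    false,
    false,
    false,
    false,
    false,
    false,
    false,
    false,
    true,
    false,
    false,
    false,
    false,
    false,
    false,
    false,
    true,
    true,
    false,
    false,
    false,
    false,
    false,
    false,
    false,
    false,
    false]

/-- Part 2 of tails. -/
def tailsC2 : List (Bool) :=
  [false,
    false,
    false,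
    false,
    false,
    false,
    false,
    false,
    false,
    false,
    false,
    false,
    false,
    false,
    false,
    false,
    false,
    false,
    false,
    false,
    false,
    false,
    false,
    false,
    false]

/-- The tails. -/
def tails : List (Bool) :=
  tailsC0 ++ tailsC1 ++ tailsC2

/-- Part 0 of equations. -/
def teqsC0 : List (TEq) :=
  [.cons [0, 0, 0],
    .cons [1, 0, 0],
    .cons [1, 1, 0],
    .cons [1, 1, 1],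
    .cons [2, 0, 0],
    .cons [2, 1, 0],
    .cons [2, 1, 1],
    .cons [2, 2, 0],
    .cons [2, 2, 1],
    .cons [3, 0, 0],
    .cons [3, 1, 0],
    .cons [3, 1, 1],
    .cons [3, 2, 0],
    .cons [3, 2, 1],
    .cons [3, 2, 2]]

/-- Part 1 of equations. -/
def teqsC1 : List (TEq) :=
  [.cons [3, 3, 0],
    .cons [3, 3, 1],
    .cons [3, 3, 2],
    .cons [4, 1, 0],
    .cons [4, 1, 1],
    .cons [4, 2, 0],
    .cons [4, 2, 1],
    .cons [4, 3, 0],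
    .cons [4, 3, 1],
    .cons [4, 3, 2],
    .cons [4, 3, 3],
    .cons [4, 4, 1],
    .cons [4, 4, 3],
    .cons [5, 0, 0],
    .cons [5, 1, 0]]

/-- Part 2 of equations. -/
def teqsC2 : List (TEq) :=
  [.cons [5, 2, 0],
    .cons [5, 2, 1],
    .cons [5, 2, 2],
    .cons [5, 3, 0],
    .cons [5, 3, 1],
    .cons [5, 3, 2],
    .cons [5, 3, 3],
    .cons [5, 4, 0],
    .cons [5, 4, 1],
    .cons [5, 4, 2],
    .cons [5, 4, 3],
    .cons [5, 4, 4],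
    .cons [5, 5, 0],
    .cons [5, 5, 1],
    .cons [5, 5, 2]]

/-- Part 3 of equations. -/
def teqsC3 : List (TEq) :=
  [.cons [5, 5, 3],
    .cons [5, 5, 4],
    .cons [5, 5, 5],
    .cons [6, 0, 0],
    .cons [6, 1, 0],
    .cons [6, 1, 1],
    .cons [6, 2, 0],
    .cons [6, 2, 1],
    .cons [6, 2, 2],
    .cons [6, 3, 0],
    .cons [6, 3, 1],
    .cons [6, 3, 2],
    .cons [6, 4, 0],
    .cons [6, 4, 1],
    .cons [6, 4, 2]]

/-- Part 4 of equations. -/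
def teqsC4 : List (TEq) :=
  [.cons [6, 4, 3],
    .cons [6, 4, 4],
    .cons [6, 5, 0],
    .cons [6, 5, 1],
    .cons [6, 5, 2],
    .cons [6, 5, 3],
    .cons [6, 5, 4],
    .cons [6, 5, 5],
    .cons [6, 6, 0],
    .cons [6, 6, 1],
    .cons [6, 6, 2],
    .cons [6, 6, 4],
    .cons [6, 6, 5],
    .cons [7, 0, 0],
    .cons [7, 1, 0]]

/-- Part 5 of equations. -/
def teqsC5 : List (TEq) :=
  [.cons [7, 1, 1],
    .cons [7, 2, 0],
    .cons [7, 2, 1],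
    .cons [7, 2, 2],
    .cons [7, 3, 0],
    .cons [7, 3, 1],
    .cons [7, 3, 2],
    .cons [7, 4, 0],
    .cons [7, 4, 1],
    .cons [7, 4, 2],
    .sq 1 [5, 6, 10, 12] [13],
    .sq 5 [0, 2, 4, 8, 9] [13],
    .sq 8 [4, 6] [13],
    .sq 1 [0, 1, 2, 3, 6, 13] [9, 11, 12],
    .sq 7 [3, 4, 6, 7, 10, 11] [0, 2, 4, 5, 6, 8, 10, 12]]

/-- Part 6 of equations. -/
def teqsC6 : List (TEq) :=
  [.sq 8 [2, 3, 8] [4],
    .sq 2 [0, 1, 2, 4, 8, 9, 11, 12, 13] [3, 4, 5],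
    .com 1 [5, 7, 9, 11] [0, 1, 2, 3, 6] [4, 5, 6, 9, 12, 13] [0, 2, 4, 8, 11, 12]]

/-- The equations. -/
def teqs : List (TEq) :=
  teqsC0 ++ teqsC1 ++ teqsC2 ++ teqsC3 ++ teqsC4 ++ teqsC5 ++ teqsC6

/-- Part 0 of vectors changing the lifts, and the last one for the tail. -/
def shiftsC0 : List (List ℕ) :=
  [[],
    [],
    [],
    [1, 1, 0, 1, 0, 1, 1, 1, 0, 0, 0, 0, 0, 0, 1, 1, 0, 0, 1]]

/-- Part 1 of vectors changing the lifts, and the last one for the tail. -/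
def shiftsC1 : List (List ℕ) :=
  [[0, 0, 0, 1, 0, 1, 1, 0, 0, 0, 0, 0, 0, 0, 0, 1, 0, 0, 0, 1, 1],
    [1, 1, 0, 1, 0, 1, 1, 0, 0, 0, 0, 0, 0, 0, 0, 1, 0, 0, 0, 1, 1],
    [1, 0, 0, 0, 0, 0, 1, 0, 0, 0, 0, 0, 0, 0, 0, 1, 1, 0, 1, 1, 1],
    [0, 0, 0, 0, 0, 0, 0, 0, 0, 0, 0, 0, 0, 0, 0, 0, 0, 0, 1]]

/-- Part 2 of vectors changing the lifts, and the last one for the tail. -/
def shiftsC2 : List (List ℕ) :=
  [[0, 0, 0, 1, 0, 0, 1, 1],
    [0, 0, 0, 1, 0, 1, 0, 0, 0, 0, 0, 0, 0, 0, 0, 0, 0, 0, 0, 1],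
    [1, 0, 0, 0, 0, 0, 0, 1, 0, 0, 0, 0, 0, 0, 0, 1],
    [0, 0, 0, 0, 0, 1]]

/-- Part 3 of vectors changing the lifts, and the last one for the tail. -/
def shiftsC3 : List (List ℕ) :=
  [[1, 0, 0, 1, 0, 1, 0, 0, 0, 0, 0, 0, 0, 0, 0, 1, 0, 0, 0, 1, 1],
    [1, 0, 0, 1, 0, 1, 1, 1, 0, 0, 0, 0, 0, 0, 0, 1, 0, 0, 0, 1, 1],
    [1, 0, 0, 1, 0, 1, 1, 0, 0, 0, 0, 0, 0, 0, 0, 1, 0, 0, 0, 1, 1]]

/-- The vectors changing the lifts, and the last one for the tail. -/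
def shifts : List (List ℕ) :=
  shiftsC0 ++ shiftsC1 ++ shiftsC2 ++ shiftsC3

/-- Part 0 of combinations of equations. -/
def combsC0 : List (List ℕ) :=
  [[],
    [],
    [0, 1, 2, 3, 4, 5, 6, 7, 10, 11, 12, 19, 21, 22, 23, 24, 25, 26, 27, 28, 29, 30, 32, 34, 35, 36, 37, 41, 43, 45, 50, 54, 57, 58, 61, 62, 63, 66, 70, 74, 75, 77, 78, 80, 81, 82, 87, 90],
    [],
    [0, 4, 7, 9, 10, 11, 13, 14, 16, 17, 18, 19, 20, 23, 24, 26, 32, 34, 37, 40, 41, 42, 43, 44, 46, 47, 48, 49, 50, 51, 53, 57, 63, 65, 66, 67, 68, 69, 70, 71, 73, 75, 77, 79, 80, 82, 83, 84, 87],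
    [],
    [],
    []]

/-- Part 1 of combinations of equations. -/
def combsC1 : List (List ℕ) :=
  [[0, 1, 2, 3, 4, 5, 6, 7, 8, 10, 19, 20, 22, 24, 28, 30, 33, 35, 37, 39, 41, 42, 43, 44, 48, 58, 59, 63, 64, 65, 66, 67, 72, 74, 75, 76, 77, 83, 84],
    [0, 4, 7, 10, 12, 14, 15, 17, 19, 20, 21, 22, 23, 24, 25, 29, 30, 35, 37, 40, 41, 43, 44, 47, 48, 49, 51, 52, 53, 54, 57, 58, 60, 65, 66, 67, 69, 70, 71, 72, 73, 75, 76, 79, 80, 82, 83],
    [0, 4, 7, 9, 14, 15, 18, 25, 29, 30, 31, 32, 34, 36, 39, 40, 43, 44, 48, 49, 51, 52, 55, 57, 59, 61, 65, 68, 70, 71, 73, 74, 75, 76, 80, 82, 83],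
    [0, 1, 2, 3, 4, 5, 6, 7, 8, 9, 11, 14, 15, 16, 17, 18, 20, 24, 25, 26, 27, 29, 31, 32, 33, 34, 36, 37, 38, 40, 41, 42, 43, 44, 45, 46, 47, 50, 51, 52, 53, 55, 59, 63, 64, 67, 68, 69, 70, 72, 75, 83, 84],
    [0, 1, 2, 3, 4, 5, 6, 7, 8, 12, 14, 15, 20, 21, 23, 24, 25, 28, 31, 36, 37, 39, 40, 43, 44, 45, 48, 54, 56, 57, 60, 62, 63, 66, 68, 73, 74, 75, 76, 78, 79, 80, 81, 82, 84],
    [0, 4, 7, 9, 10, 11, 13, 14, 16, 17, 18, 19, 20, 23, 24, 32, 34, 37, 40, 41, 42, 43, 44, 46, 47, 48, 49, 50, 51, 53, 57, 63, 65, 66, 67, 68, 69, 70, 71, 73, 75, 77, 79, 80, 82, 83, 84],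
    [],
    []]

/-- Part 2 of combinations of equations. -/
def combsC2 : List (List ℕ) :=
  [[],
    [0],
    [],
    [],
    [],
    [1, 2, 3, 4, 5, 6, 7, 9, 10, 12, 14, 15, 16, 17, 18, 19, 21, 26, 27, 28, 33, 35, 36, 38, 41, 42, 45, 46, 51, 52, 53, 54, 55, 56, 57, 58, 60, 62, 66, 67, 68, 71, 72, 75, 78, 79, 83, 84, 86, 87, 90],
    [0, 2, 3, 4, 6, 7, 11, 12, 13, 14, 22, 23, 24, 26, 30, 34, 35, 37, 38, 39, 41, 42, 43, 45, 50, 53, 57, 61, 63, 64, 65, 68, 69, 70, 73, 75, 76, 77, 78, 79, 81, 82, 84, 85, 86, 87, 89],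
    [0, 4, 7, 10, 13, 14, 16, 17, 19, 22, 25, 26, 27, 30, 31, 33, 34, 37, 38, 39, 42, 45, 47, 48, 50, 51, 52, 54, 57, 58, 60, 61, 62, 64, 66, 74, 76]]

/-- Part 3 of combinations of equations. -/
def combsC3 : List (List ℕ) :=
  [[1, 4, 5, 7, 9, 10, 17, 18, 19, 21, 24, 25, 27, 31, 33, 34, 35, 37, 41, 42, 44, 47, 49, 54, 58, 59, 61, 63, 64, 67, 68, 69, 71, 74, 75, 76, 77, 79, 82, 83, 84, 85, 89, 90],
    [0, 3, 5, 6, 8, 11, 13, 14, 18, 25, 26, 27, 29, 31, 32, 33, 35, 39, 40, 41, 42, 46, 47, 50, 54, 57, 62, 64, 65, 66, 68, 69, 72, 74, 79, 81, 83, 84, 86, 87, 88, 90, 91, 92],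
    [1, 2, 3, 5, 6, 8, 14, 17, 20, 22, 25, 26, 27, 28, 31, 32, 33, 34, 40, 42, 43, 45, 50, 52, 53, 54, 55, 56, 60, 62, 63, 64, 65, 67, 69, 70, 72, 73, 77, 82],
    [0, 2, 4, 5, 6, 9, 10, 11, 12, 13, 16, 17, 20, 21, 22, 23, 24, 25, 27, 33, 34, 38, 41, 44, 49, 50, 53, 55, 56, 57, 58, 61, 62, 67, 75, 76, 77, 79, 80, 84, 85, 87, 88, 90],
    [0, 1, 3, 13, 18, 20, 25, 27, 29, 30, 32, 34, 35, 36, 37, 41, 42, 44, 49, 51, 53, 54, 55, 61, 63, 64, 66, 67, 69, 73, 74, 75, 76, 77, 80, 83, 84, 85, 86, 87, 88, 90, 91, 92],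
    [1, 2, 6, 7, 8, 9, 10, 14, 15, 16, 19, 23, 24, 26, 27, 28, 29, 31, 39, 40, 42, 44, 45, 46, 48, 49, 52, 54, 55, 56, 57, 58, 61, 63, 64, 65, 68, 70, 71, 72, 73, 74, 77, 79, 80, 81, 82, 83, 85, 87, 89, 90, 92],
    [3],
    [0, 4, 7, 9, 12, 14, 18, 19, 21, 22, 26, 32, 33, 36, 38, 39, 41, 42, 43, 45, 46, 47, 48, 49, 52, 55, 56, 57, 60, 66, 67, 68, 73, 76, 77, 81, 83, 84]]

/-- Part 4 of combinations of equations. -/
def combsC4 : List (List ℕ) :=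
  [[1, 6, 7, 10, 11, 12, 14, 16, 19, 20, 21, 24, 29, 30, 31, 32, 33, 34, 35, 36, 38, 43, 46, 49, 51, 53, 54, 57, 58, 65, 69, 71, 72, 74, 78, 79, 80, 82, 85, 87, 88, 89, 90, 91],
    [1, 3, 4, 6, 7, 12, 13, 14, 17, 18, 20, 23, 25, 26, 27, 28, 29, 30, 32, 36, 37, 38, 39, 41, 42, 43, 44, 45, 47, 48, 49, 50, 51, 53, 54, 55, 56, 57, 58, 62, 63, 65, 67, 72, 75, 80, 81, 82, 83, 88, 89, 90, 91, 92],
    [2, 3, 4, 6, 7, 8, 9, 12, 13, 15, 16, 18, 20, 24, 25, 26, 28, 29, 30, 36, 38, 41, 44, 46, 52, 56, 58, 62, 64, 65, 69, 71, 73, 74, 75, 80, 81, 82, 85, 89, 90],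
    [1, 3, 6, 8, 9, 13, 16, 21, 22, 23, 24, 27, 28, 29, 32, 33, 34, 36, 37, 39, 40, 41, 42, 45, 46, 47, 50, 52, 55, 56, 58, 59, 60, 63, 66, 67, 68, 69, 76, 78, 83, 84, 86, 87, 88, 89, 91, 92],
    [43],
    [1, 2, 4, 7, 12, 13, 14, 18, 21, 24, 27, 30, 37, 40, 41, 43, 45, 46, 47, 48, 51, 59, 61, 63, 67, 69, 70, 71, 72, 73, 74, 75, 77, 78, 80, 83, 86, 87, 88, 90, 91, 92],
    [0, 4, 7, 11, 12, 13, 16, 20, 21, 22, 23, 27, 28, 29, 30, 32, 34, 35, 37, 38, 40, 42, 43, 44, 49, 52, 54, 55, 56, 58, 60, 61, 64, 66, 68, 70, 72, 73, 74, 76, 77, 79, 80, 82],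
    [8, 10, 12, 16, 17, 19, 21, 22, 24, 25, 26, 28, 29, 32, 33, 37, 42, 43, 48, 49, 50, 52, 53, 54, 56, 60, 62, 63, 65, 68, 69, 72, 73, 74, 75, 77, 81]]

/-- Part 5 of combinations of equations. -/
def combsC5 : List (List ℕ) :=
  [[0, 4, 9, 10, 11, 18, 19, 22, 26, 35, 36, 41, 43, 49, 50, 51, 52, 53, 55, 56, 57, 58, 59, 60, 61, 65, 71, 74, 75, 77, 78, 79, 80, 82, 83, 87],
    [0, 3, 4, 5, 6, 7, 12, 13, 18, 20, 22, 24, 27, 28, 31, 32, 36, 38, 39, 43, 46, 47, 49, 50, 51, 53, 54, 55, 56, 57, 60, 61, 63, 64, 65, 67, 68, 71, 74, 76, 80, 82, 83, 86, 87, 88, 89, 91, 92],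
    [0, 1, 2, 3, 5, 6, 9, 10, 12, 13, 14, 15, 17, 19, 20, 23, 24, 25, 27, 28, 29, 30, 31, 34, 37, 41, 43, 44, 48, 49, 50, 51, 52, 53, 54, 56, 57, 61, 63, 65, 66, 68, 69, 71, 72, 73, 74, 77, 79, 82, 83, 84, 85, 86, 87, 90],
    [0, 4, 7, 9, 10, 11, 13, 14, 16, 17, 18, 19, 20, 23, 24, 34, 37, 40, 41, 42, 43, 44, 46, 47, 48, 49, 50, 51, 53, 57, 63, 65, 66, 67, 68, 69, 70, 71, 73, 75, 77, 79, 80, 82, 83, 84],
    [0, 1, 2, 3, 4, 5, 6, 7, 8, 10, 19, 20, 22, 24, 28, 30, 33, 35, 37, 39, 41, 42, 43, 44, 48, 53, 58, 59, 63, 64, 65, 66, 67, 72, 74, 75, 76, 77, 83, 84],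
    [2, 4, 5, 7, 8, 9, 11, 12, 14, 20, 24, 26, 27, 29, 34, 41, 44, 47, 49, 52, 58, 60, 61, 64, 65, 66, 67, 68, 69, 71, 72, 79, 80, 85, 88, 89, 90, 91, 92],
    [0, 1, 2, 3, 4, 5, 6, 7, 8, 9, 11, 14, 17, 18, 23, 24, 28, 30, 34, 38, 39, 41, 42, 44, 46, 49, 50, 55, 56, 58, 61, 68, 71, 72, 74, 75, 76, 78, 79, 80, 83, 84],
    [1, 4, 5, 7, 9, 10, 17, 18, 19, 21, 24, 25, 27, 31, 33, 34, 35, 37, 41, 47, 49, 54, 58, 59, 61, 63, 64, 67, 68, 69, 71, 74, 75, 76, 77, 79, 82, 83, 84, 85, 89, 90]]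

/-- Part 6 of combinations of equations. -/
def combsC6 : List (List ℕ) :=
  [[1, 2, 3, 5, 6, 8, 9, 10, 11, 12, 13, 14, 17, 18, 19, 21, 23, 24, 25, 26, 29, 30, 34, 35, 37, 39, 40, 42, 43, 46, 47, 48, 51, 52, 53, 54, 56, 57, 58, 59, 60, 62, 63, 64, 65, 70, 71, 75, 76, 77, 78, 79, 80, 81, 82],
    [0, 4, 7, 9, 10, 11, 13, 14, 16, 17, 18, 19, 20, 23, 24, 32, 34, 37, 40, 41, 42, 43, 44, 46, 47, 48, 49, 50, 51, 53, 57, 63, 65, 66, 67, 68, 69, 70, 71, 73, 75, 77, 78, 79, 80, 82, 83, 84],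
    [0, 3, 4, 5, 6, 7, 12, 14, 21, 22, 26, 27, 28, 29, 32, 34, 36, 37, 39, 41, 44, 46, 47, 48, 55, 60, 63, 65, 68, 69, 72, 74, 79, 81, 82, 83, 85, 88, 91, 92],
    [0, 2, 3, 5, 7, 9, 13, 14, 15, 18, 22, 23, 24, 27, 28, 30, 33, 35, 36, 37, 39, 43, 45, 46, 48, 50, 51, 52, 54, 58, 60, 61, 62, 63, 70, 71, 73, 75, 76, 78, 79, 82, 83, 84, 86, 88, 89, 91],
    [1, 2, 4, 7, 9, 11, 13, 15, 16, 17, 25, 27, 28, 30, 31, 32, 34, 37, 44, 45, 46, 47, 50, 51, 54, 55, 59, 63, 64, 66, 67, 68, 69, 71, 74, 75, 76, 80, 81, 82, 83, 86, 87, 88, 90, 91, 92],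
    [4, 7, 8, 10, 12, 14, 16, 19, 21, 22, 23, 25, 26, 27, 30, 31, 33, 34, 37, 38, 39, 41, 43, 45, 46, 48, 49, 50, 51, 53, 54, 55, 56, 57, 58, 59, 61, 64, 66, 70, 74, 75, 76, 78, 81, 84, 85, 86, 87, 90],
    [1, 2, 3, 5, 6, 8, 9, 12, 13, 14, 16, 17, 18, 20, 21, 22, 25, 27, 28, 29, 30, 35, 36, 40, 42, 44, 45, 46, 47, 48, 49, 51, 54, 58, 61, 62, 65, 67, 68, 69, 71, 73, 74, 78, 79, 81, 83, 84],
    [1, 2, 3, 5, 6, 8, 11, 12, 15, 16, 17, 21, 22, 24, 27, 28, 33, 34, 37, 38, 39, 40, 41, 46, 47, 48, 49, 51, 53, 59, 60, 64, 65, 66, 68, 70, 71, 73, 74, 76, 77, 79, 80, 84, 85]]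

/-- Part 7 of combinations of equations. -/
def combsC7 : List (List ℕ) :=
  [[0, 2, 4, 5, 7, 11, 12, 14, 16, 18, 20, 22, 24, 27, 30, 31, 32, 33, 34, 36, 37, 40, 41, 42, 43, 44, 45, 47, 49, 51, 53, 56, 57, 61, 63, 67, 69, 70, 74, 75, 76, 77, 80, 82, 83, 84, 85, 86, 87, 88, 89, 91, 92],
    [3, 4, 5, 6, 7, 8, 9, 10, 13, 14, 15, 16, 19, 23, 24, 29, 31, 32, 33, 35, 36, 38, 41, 42, 45, 47, 49, 50, 51, 52, 55, 56, 57, 59, 62, 64, 66, 67, 75, 76, 78, 82, 83, 86, 87, 88, 90, 91, 92],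
    [27, 59, 60, 70],
    [1, 2, 3, 5, 6, 8, 9, 12, 13, 16, 18, 20, 21, 22, 25, 28, 29, 30, 35, 36, 40, 42, 44, 45, 46, 47, 48, 49, 51, 54, 58, 59, 60, 61, 62, 65, 67, 68, 69, 70, 71, 73, 74, 78, 79, 81, 83, 84],
    [1, 2, 3, 5, 6, 8, 9, 12, 13, 14, 15, 17, 18, 20, 21, 22, 23, 26, 27, 28, 31, 32, 37, 42, 43, 44, 46, 47, 50, 51, 52, 54, 57, 58, 59, 61, 62, 63, 64, 65, 68, 69, 73, 75, 80, 81, 82, 84],
    [0, 1, 2, 3, 4, 5, 6, 7, 8, 12, 14, 15, 20, 21, 23, 24, 25, 26, 28, 31, 36, 37, 39, 40, 43, 44, 45, 48, 54, 56, 57, 60, 61, 62, 63, 66, 68, 71, 73, 74, 75, 76, 78, 79, 80, 81, 82, 84],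
    [2, 4, 5, 7, 8, 10, 11, 12, 13, 14, 15, 16, 17, 18, 19, 22, 23, 24, 25, 27, 28, 29, 30, 31, 37, 38, 41, 42, 45, 46, 55, 56, 57, 59, 60, 61, 62, 63, 64, 66, 70, 72, 75, 76, 77, 80, 81, 82, 84, 85, 88, 89, 90, 91, 92],
    [0, 1, 2, 3, 4, 5, 6, 7, 8, 10, 19, 20, 22, 24, 27, 28, 30, 33, 35, 37, 39, 41, 42, 43, 44, 48, 58, 59, 63, 64, 65, 66, 67, 72, 74, 75, 76, 77, 83, 84]]

/-- Part 8 of combinations of equations. -/
def combsC8 : List (List ℕ) :=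
  [[0, 4, 7, 9, 10, 14, 15, 18, 19, 20, 23, 26, 27, 28, 30, 31, 32, 35, 38, 39, 40, 43, 46, 47, 48, 49, 52, 53, 54, 55, 56, 59, 61, 62, 64, 65, 66, 69, 70, 72, 76, 79, 80, 82, 84],
    [0, 4, 7, 9, 13, 15, 16, 17, 18, 20, 22, 23, 24, 25, 29, 30, 31, 35, 37, 39, 42, 43, 46, 47, 49, 51, 56, 57, 58, 60, 63, 65, 66, 67, 69, 71, 75, 76, 80, 82, 83],
    [0, 1, 2, 10, 12, 14, 16, 17, 18, 19, 21, 22, 23, 24, 26, 28, 30, 31, 32, 33, 38, 41, 43, 44, 46, 48, 49, 51, 52, 56, 61, 64, 65, 66, 68, 69, 70, 71, 73, 76, 77, 78, 79, 82, 84, 86, 87, 88, 90, 91, 92],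
    [0, 1, 2, 3, 4, 5, 6, 7, 8, 12, 14, 15, 20, 21, 23, 24, 25, 28, 31, 36, 37, 39, 40, 43, 44, 45, 48, 54, 56, 57, 60, 61, 62, 63, 66, 68, 73, 74, 75, 76, 78, 79, 80, 81, 82, 84],
    [0, 4, 7, 9, 13, 15, 16, 17, 18, 22, 23, 24, 25, 29, 30, 31, 35, 37, 39, 42, 43, 46, 47, 49, 51, 56, 57, 58, 60, 63, 65, 66, 67, 69, 71, 75, 76, 80, 82, 83],
    [1, 2, 4, 7, 9, 10, 11, 12, 16, 19, 20, 21, 22, 23, 24, 27, 29, 30, 31, 32, 33, 34, 35, 36, 37, 39, 41, 50, 51, 52, 55, 56, 57, 58, 59, 61, 63, 64, 65, 66, 68, 72, 73, 74, 75, 78, 79, 84, 85, 86, 87, 88, 90, 91, 92],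
    [0, 2, 3, 6, 8, 9, 10, 13, 14, 16, 17, 18, 19, 21, 22, 23, 26, 28, 35, 36, 37, 38, 40, 43, 46, 47, 48, 49, 51, 53, 54, 56, 57, 60, 62, 64, 66, 67, 70, 72, 74, 75, 76, 79, 81, 83, 85, 89, 90],
    [2, 3, 4, 6, 7, 8, 11, 13, 15, 21, 22, 23, 27, 30, 32, 35, 36, 38, 39, 41, 42, 43, 44, 47, 48, 49, 50, 52, 55, 56, 57, 60, 61, 62, 63, 66, 67, 68, 70, 71, 75, 79, 83, 84, 89, 90]]

/-- Part 9 of combinations of equations. -/
def combsC9 : List (List ℕ) :=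
  [[0, 3, 5, 6, 8, 12, 13, 14, 15, 16, 18, 20, 21, 22, 24, 25, 27, 28, 29, 30, 32, 34, 35, 36, 38, 39, 44, 47, 49, 51, 52, 53, 55, 57, 58, 59, 62, 65, 67, 68, 70, 71, 73, 75, 76, 77, 79, 81, 82, 83, 84, 86, 87, 88, 90, 91, 92],
    [1, 2, 3, 5, 6, 8, 9, 10, 11, 14, 15, 16, 18, 19, 20, 22, 25, 29, 30, 34, 37, 41, 42, 43, 47, 51, 53, 56, 57, 59, 60, 61, 63, 67, 72, 74, 76, 79, 80, 82, 83],
    [47],
    [0, 4, 7, 9, 10, 12, 13, 16, 18, 19, 20, 21, 22, 25, 28, 30, 31, 32, 33, 34, 41, 45, 47, 48, 50, 51, 52, 53, 55, 56, 57, 58, 59, 61, 62, 65, 66, 69, 70, 72, 73, 74, 75, 78, 82, 83],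
    [0, 4, 7, 9, 11, 12, 13, 14, 17, 18, 20, 21, 22, 23, 24, 26, 28, 29, 33, 34, 40, 41, 44, 46, 51, 52, 54, 57, 60, 62, 66, 71, 74, 78, 79, 80, 81, 82, 83, 84],
    [0, 2, 3, 6, 8, 9, 10, 11, 16, 17, 18, 19, 21, 23, 24, 26, 29, 30, 33, 35, 37, 38, 40, 43, 48, 49, 53, 54, 56, 57, 64, 68, 71, 78, 79, 82, 89, 90],
    [0, 4, 7, 9, 11, 12, 13, 14, 17, 18, 20, 21, 22, 23, 25, 26, 28, 29, 33, 34, 40, 41, 44, 46, 47, 51, 52, 53, 54, 56, 57, 60, 62, 66, 67, 71, 72, 74, 78, 79, 80, 81, 82, 83, 84],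
    [0, 4, 7, 9, 12, 14, 17, 18, 21, 23, 24, 26, 28, 32, 33, 37, 38, 39, 40, 42, 43, 45, 50, 52, 54, 58, 60, 63, 64, 65, 66, 70, 72, 73, 74, 75, 78, 79, 82, 83, 84]]

/-- Part 10 of combinations of equations. -/
def combsC10 : List (List ℕ) :=
  [[1, 2, 4, 7, 9, 12, 14, 15, 16, 17, 21, 23, 25, 33, 35, 36, 37, 39, 41, 44, 45, 47, 48, 49, 50, 51, 53, 56, 57, 58, 59, 61, 62, 63, 64, 67, 70, 72, 73, 74, 75, 76, 79, 80, 81, 82, 86, 87, 88, 90, 91, 92],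
    [0, 4, 7, 9, 10, 11, 14, 17, 18, 19, 20, 22, 28, 29, 30, 31, 32, 34, 35, 36, 39, 43, 48, 49, 50, 52, 54, 56, 57, 59, 61, 65, 66, 68, 70, 71, 72, 75, 76, 81],
    [61, 71],
    [0, 4, 7, 9, 11, 12, 13, 14, 17, 18, 20, 21, 22, 23, 24, 26, 28, 29, 33, 34, 40, 41, 44, 46, 47, 51, 52, 54, 57, 60, 61, 62, 66, 67, 72, 74, 78, 79, 80, 81, 82, 83, 84],
    [0, 1, 5, 9, 18, 20, 21, 25, 26, 29, 30, 31, 32, 34, 35, 36, 37, 38, 40, 41, 43, 44, 46, 47, 48, 57, 61, 66, 68, 69, 70, 71, 76, 77, 78, 79, 81, 83, 84, 85, 89, 90],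
    [0, 1, 2, 3, 4, 5, 6, 7, 8, 15, 16, 17, 20, 23, 24, 25, 28, 31, 32, 34, 36, 38, 42, 48, 49, 51, 58, 62, 64, 66, 67, 69, 70, 73, 74, 77, 78, 80, 81, 84],
    [0, 1, 2, 3, 4, 5, 6, 7, 8, 9, 11, 12, 13, 17, 18, 20, 21, 22, 25, 27, 32, 34, 39, 40, 41, 42, 43, 44, 46, 48, 50, 51, 52, 53, 54, 58, 60, 62, 63, 64, 65, 67, 70, 74, 75, 77, 79, 81, 82, 83, 84],
    [0, 1, 2, 3, 4, 5, 6, 7, 8, 9, 11, 12, 13, 18, 20, 21, 22, 23, 24, 27, 29, 31, 32, 33, 35, 36, 37, 39, 40, 41, 47, 55, 57, 63, 64, 66, 70, 72, 79, 82]]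

/-- Part 11 of combinations of equations. -/
def combsC11 : List (List ℕ) :=
  [[0, 4, 7, 10, 12, 14, 16, 17, 19, 20, 21, 22, 23, 24, 26, 28, 31, 32, 33, 35, 37, 38, 41, 42, 43, 49, 51, 53, 54, 55, 60, 64, 66, 67, 68, 71, 72, 73, 76, 77, 78, 80, 82, 84],
    [9, 10, 14, 15, 18, 19, 22, 23, 25, 26, 31, 34, 35, 36, 40, 41, 43, 47, 48, 49, 50, 51, 52, 55, 56, 58, 65, 67, 68, 69, 70, 71, 75, 76, 78, 82, 84],
    [0, 3, 5, 6, 8, 9, 10, 11, 15, 16, 17, 19, 20, 22, 24, 27, 29, 34, 36, 37, 38, 39, 41, 43, 44, 46, 47, 48, 50, 51, 52, 53, 56, 58, 59, 60, 61, 62, 64, 65, 67, 71, 73, 74, 77, 78, 79, 80, 82, 86, 87, 88, 90, 91, 92],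
    [0, 1, 2, 3, 4, 5, 6, 7, 8, 12, 13, 14, 17, 21, 22, 26, 30, 31, 36, 37, 41, 42, 45, 46, 49, 50, 51, 52, 56, 59, 61, 63, 64, 67, 68, 72, 73, 74, 75, 78, 80, 82, 83, 84],
    [0, 4, 7, 9, 11, 12, 14, 15, 18, 21, 22, 23, 30, 31, 33, 37, 38, 40, 41, 42, 50, 54, 55, 56, 57, 58, 59, 61, 62, 63, 65, 66, 68, 70, 73, 74, 75, 78, 80, 81],
    [0, 4, 7, 9, 11, 12, 13, 14, 17, 18, 20, 21, 22, 23, 25, 26, 27, 28, 29, 33, 34, 40, 41, 44, 46, 47, 51, 52, 53, 54, 56, 57, 59, 60, 62, 66, 67, 70, 71, 72, 74, 78, 79, 80, 81, 82, 83, 84],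
    [0, 1, 2, 3, 4, 5, 6, 7, 8, 11, 16, 23, 24, 25, 26, 30, 33, 34, 35, 36, 41, 42, 45, 48, 49, 52, 56, 57, 58, 59, 60, 61, 65, 66, 68, 69, 70, 72, 73, 80, 82],
    [0, 4, 7, 9, 10, 13, 14, 15, 16, 17, 18, 19, 20, 22, 23, 24, 25, 26, 27, 28, 30, 31, 34, 38, 39, 42, 44, 45, 46, 47, 49, 52, 55, 56, 57, 59, 61, 62, 63, 65, 67, 68, 70, 73, 75, 76, 77, 79, 81, 84]]

/-- Part 12 of combinations of equations. -/
def combsC12 : List (List ℕ) :=
  [[0, 4, 7, 11, 13, 14, 22, 23, 28, 29, 30, 33, 35, 38, 40, 42, 43, 44, 45, 46, 48, 49, 50, 54, 57, 59, 60, 61, 64, 68, 69, 71, 72, 73, 75, 76, 79, 81, 82],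
    [0, 4, 7, 11, 13, 14, 15, 16, 17, 23, 24, 26, 27, 31, 32, 33, 34, 35, 37, 40, 41, 43, 46, 49, 51, 52, 53, 54, 58, 59, 60, 61, 63, 64, 66, 67, 68, 69, 71, 73, 76, 79, 81, 83, 84],
    [1, 2, 3, 5, 6, 8, 11, 13, 14, 15, 16, 22, 25, 28, 29, 31, 34, 35, 37, 38, 43, 44, 47, 50, 51, 55, 57, 58, 60, 61, 63, 65, 66, 67, 68, 71, 72, 74, 78, 79, 82],
    [1, 2, 3, 5, 6, 8, 9, 13, 14, 17, 18, 20, 24, 25, 27, 31, 33, 35, 39, 42, 44, 45, 46, 48, 51, 56, 58, 59, 61, 62, 64, 65, 66, 67, 69, 70, 71, 72, 73, 74, 75, 76, 80, 81, 82, 84],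
    [10, 11, 12, 13, 14, 16, 19, 21, 22, 23, 26, 27, 29, 30, 31, 32, 33, 34, 36, 37, 41, 43, 44, 45, 48, 52, 53, 54, 55, 56, 58, 60, 61, 63, 65, 68, 74, 77, 84],
    [1, 2, 3, 5, 6, 8, 11, 13, 14, 15, 16, 22, 25, 28, 29, 31, 34, 35, 37, 38, 41, 43, 44, 47, 50, 51, 55, 57, 60, 61, 63, 65, 66, 67, 68, 69, 72, 74, 78, 79, 82],
    [1, 2, 3, 5, 6, 8, 9, 10, 11, 12, 16, 18, 19, 21, 24, 26, 27, 28, 29, 33, 35, 36, 39, 40, 41, 42, 45, 50, 53, 54, 55, 56, 57, 58, 64, 65, 69, 70, 73, 75, 78, 82, 83, 84],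
    [0, 4, 7, 10, 12, 13, 14, 15, 16, 19, 21, 23, 25, 27, 28, 31, 37, 38, 39, 41, 42, 46, 48, 49, 50, 52, 53, 54, 55, 61, 63, 64, 69, 71, 72, 74, 80, 82, 84]]

/-- Part 13 of combinations of equations. -/
def combsC13 : List (List ℕ) :=
  [[0, 1, 2, 3, 4, 5, 6, 7, 8, 10, 11, 12, 15, 16, 19, 21, 22, 24, 26, 27, 31, 34, 40, 48, 49, 52, 53, 54, 59, 61, 62, 64, 66, 67, 69, 70, 77, 79, 81, 83]]

/-- The combinations of equations. -/
def combs : List (List ℕ) :=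
  combsC0 ++ combsC1 ++ combsC2 ++ combsC3 ++ combsC4 ++ combsC5 ++ combsC6 ++ combsC7 ++ combsC8 ++ combsC9 ++ combsC10 ++ combsC11 ++ combsC12 ++ combsC13

/-- Part 0 of words of the conjugating elements. -/
def conjWordsC0 : List (List ℕ) :=
  [[12, 12, 14, 14, 10, 10, 9, 10, 10, 8, 10, 7, 7, 4, 4, 4, 6, 2, 0, 0, 3, 1, 2, 0],
    [14, 13, 15, 8, 10, 9, 11, 8, 6, 6, 4, 6, 5, 1, 3, 1, 1, 3, 3, 1, 1],
    [14, 12, 15, 8, 10, 8, 11, 8, 11, 8, 6, 6, 4, 7, 7, 4, 2, 1, 2, 2, 2, 1, 2]]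

/-- Part 1 of words of the conjugating elements. -/
def conjWordsC1 : List (List ℕ) :=
  [[13, 8, 10, 9, 9, 9, 11, 4, 6, 4, 6, 6, 0, 2, 2, 0, 3, 1, 2],
    [1, 3, 0, 2, 1, 1, 3, 7, 5, 5, 5, 6, 6, 11, 9, 11, 11, 8, 11, 11, 15, 15, 13, 13],
    [0, 0, 2, 2, 0, 0, 2, 0, 4, 7, 5, 7, 7, 9, 10, 8, 11, 9, 14, 12, 15]]

/-- Part 2 of words of the conjugating elements. -/
def conjWordsC2 : List (List ℕ) :=
  [[3, 0, 3, 3, 3, 0, 3, 5, 6, 6, 5, 7, 7, 9, 10, 9, 10, 9, 11, 9, 14, 13, 15],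
    [3, 0, 2, 1, 3, 3, 1, 7, 7, 5, 7, 5, 10, 8, 8, 8, 11, 9, 12],
    [1, 12, 15, 8, 10, 9, 11, 8, 11, 5, 7, 7, 4, 4, 1, 1, 2, 2, 0, 0, 0, 14, 13, 15, 10, 10, 9, 10, 10, 8, 10, 5, 6, 5, 7, 7, 2, 2, 1, 3, 3, 3, 3, 3, 12, 15, 12, 9, 10, 9, 10, 5, 5, 6, 4, 6, 2, 0, 0, 0, 3, 3, 3, 0, 12, 12, 14, 14, 9, 10, 10, 8, 11, 8, 11, 7, 7, 7, 4, 4, 1, 2, 2, 2, 2, 0, 3, 14, 13, 15, 10, 10, 8, 10, 5, 6, 4, 7, 0, 0, 2, 1, 3, 1, 1, 12, 15, 8, 10, 9, 11, 8, 11, 5, 7, 7, 4, 4, 1, 1, 2, 2, 0, 0, 0, 12, 15, 12, 9, 10, 9, 10, 5, 5, 6, 4, 6, 2, 0, 0, 0, 3, 3, 3, 1]]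

/-- The words of the conjugating elements. -/
def conjWords : List (List ℕ) :=
  conjWordsC0 ++ conjWordsC1 ++ conjWordsC2

/-- Part 0 of class representatives with elements moving them to the central one. -/
def fuseListC0 : List (List ℕ × List ℕ) :=
  [([13], []),
    ([12], [3, 0, 2, 1, 3, 3, 1, 7, 7, 5, 7, 5, 10, 8, 8, 8, 11, 9, 12, 14, 12, 14, 8, 11, 9, 10, 10, 4, 6, 5, 7, 5, 2, 1, 2, 0, 0, 0, 0, 13, 8, 10, 9, 9, 9, 11, 4, 6, 4, 6, 6, 0, 2, 2, 0, 3, 1, 2])]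

/-- Part 1 of class representatives with elements moving them to the central one. -/
def fuseListC1 : List (List ℕ × List ℕ) :=
  [([11], [14, 13, 15, 10, 10, 8, 10, 5, 6, 4, 7, 0, 0, 2, 1, 3, 1, 1, 14, 12, 14, 8, 11, 9, 10, 10, 4, 6, 5, 7, 5, 2, 1, 2, 0, 0, 0, 0, 3, 0, 2, 1, 3, 3, 1, 7, 7, 5, 7, 5, 10, 8, 8, 8, 11, 9, 12]),
    ([10], [15, 8, 10, 8, 11, 9, 7, 4, 7, 4, 4, 6, 0, 3, 1, 1, 1, 2, 14, 12, 14, 8, 11, 9, 10, 10, 4, 6, 5, 7, 5, 2, 1, 2, 0, 0, 0, 0, 13, 8, 10, 9, 9, 9, 11, 4, 6, 4, 6, 6, 0, 2, 2, 0, 3, 1, 2, 14, 13, 15, 8, 10, 9, 11, 8, 6, 6, 4, 6, 5, 1, 3, 1, 1, 3, 3, 1, 1])]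

/-- Part 2 of class representatives with elements moving them to the central one. -/
def fuseListC2 : List (List ℕ × List ℕ) :=
  [([9], [15, 8, 10, 8, 11, 9, 7, 4, 7, 4, 4, 6, 0, 3, 1, 1, 1, 2, 14, 13, 15, 10, 10, 8, 10, 5, 6, 4, 7, 0, 0, 2, 1, 3, 1, 1, 13, 8, 10, 9, 9, 9, 11, 4, 6, 4, 6, 6, 0, 2, 2, 0, 3, 1, 2]),
    ([8], [12, 15, 12, 10, 10, 8, 10, 8, 4, 6, 4, 7, 7, 7, 1, 2, 1, 1, 3, 0, 3, 15, 8, 10, 8, 11, 9, 7, 4, 7, 4, 4, 6, 0, 3, 1, 1, 1, 2, 14, 12, 15, 8, 10, 8, 11, 8, 11, 8, 6, 6, 4, 7, 7, 4, 2, 1, 2, 2, 2, 1, 2, 14, 12, 14, 8, 11, 9, 10, 10, 4, 6, 5, 7, 5, 2, 1, 2, 0, 0, 0, 0, 14, 13, 15, 8, 10, 9, 11, 8, 6, 6, 4, 6, 5, 1, 3, 1, 1, 3, 3, 1, 1])]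

/-- Part 3 of class representatives with elements moving them to the central one. -/
def fuseListC3 : List (List ℕ × List ℕ) :=
  [([5, 6, 10], [14, 12, 14, 9, 9, 9, 11, 8, 4, 6, 4, 4, 7, 5, 0, 3, 1, 3, 3, 3, 3, 0, 15, 8, 10, 8, 11, 9, 7, 4, 7, 4, 4, 6, 0, 3, 1, 1, 1, 2, 14, 13, 15, 8, 10, 9, 11, 8, 6, 6, 4, 6, 5, 1, 3, 1, 1, 3, 3, 1, 1]),
    ([4], [15, 8, 10, 8, 11, 9, 7, 4, 7, 4, 4, 6, 0, 3, 1, 1, 1, 2, 1, 12, 15, 8, 10, 9, 11, 8, 11, 5, 7, 7, 4, 4, 1, 1, 2, 2, 0, 0, 0, 14, 13, 15, 10, 10, 9, 10, 10, 8, 10, 5, 6, 5, 7, 7, 2, 2, 1, 3, 3, 3, 3, 3, 12, 15, 12, 9, 10, 9, 10, 5, 5, 6, 4, 6, 2, 0, 0, 0, 3, 3, 3, 0, 12, 12, 14, 14, 9, 10, 10, 8, 11, 8, 11, 7, 7, 7, 4, 4, 1, 2, 2, 2, 2, 0, 3, 14, 13, 15, 10, 10, 8, 10, 5, 6, 4, 7, 0, 0, 2, 1, 3, 1, 1, 12, 15, 8, 10, 9, 11, 8, 11, 5, 7, 7, 4, 4, 1, 1, 2, 2, 0, 0, 0, 12, 15, 12, 9, 10, 9, 10, 5, 5, 6, 4, 6, 2, 0, 0, 0, 3, 3, 3, 1])]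

/-- Part 4 of class representatives with elements moving them to the central one. -/
def fuseListC4 : List (List ℕ × List ℕ) :=
  [([3, 4, 10], [12, 12, 14, 14, 9, 10, 10, 8, 11, 8, 11, 7, 7, 7, 4, 4, 1, 2, 2, 2, 2, 0, 3, 15, 8, 10, 8, 11, 9, 7, 4, 7, 4, 4, 6, 0, 3, 1, 1, 1, 2, 3, 0, 2, 1, 3, 3, 1, 7, 7, 5, 7, 5, 10, 8, 8, 8, 11, 9, 12, 14, 12, 14, 9, 9, 9, 11, 8, 4, 6, 4, 4, 7, 5, 0, 3, 1, 3, 3, 3, 3, 0, 15, 8, 10, 8, 11, 9, 7, 4, 7, 4, 4, 6, 0, 3, 1, 1, 1, 2, 0, 0, 2, 2, 0, 0, 2, 0, 4, 7, 5, 7, 7, 9, 10, 8, 11, 9, 14, 12, 15]),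
    ([2], [15, 8, 10, 8, 11, 9, 7, 4, 7, 4, 4, 6, 0, 3, 1, 1, 1, 2, 14, 12, 14, 9, 9, 9, 11, 8, 4, 6, 4, 4, 7, 5, 0, 3, 1, 3, 3, 3, 3, 0, 1, 12, 15, 8, 10, 9, 11, 8, 11, 5, 7, 7, 4, 4, 1, 1, 2, 2, 0, 0, 0, 14, 13, 15, 10, 10, 9, 10, 10, 8, 10, 5, 6, 5, 7, 7, 2, 2, 1, 3, 3, 3, 3, 3, 12, 15, 12, 9, 10, 9, 10, 5, 5, 6, 4, 6, 2, 0, 0, 0, 3, 3, 3, 0, 12, 12, 14, 14, 9, 10, 10, 8, 11, 8, 11, 7, 7, 7, 4, 4, 1, 2, 2, 2, 2, 0, 3, 14, 13, 15, 10, 10, 8, 10, 5, 6, 4, 7, 0, 0, 2, 1, 3, 1, 1, 12, 15, 8, 10, 9, 11, 8, 11, 5, 7, 7, 4, 4, 1, 1, 2, 2, 0, 0, 0, 12, 15, 12, 9, 10, 9, 10, 5, 5, 6, 4, 6, 2, 0, 0, 0, 3, 3, 3, 1, 15, 8, 10, 8, 11, 9, 7, 4, 7, 4, 4, 6, 0, 3, 1, 1, 1, 2, 1, 12, 15, 8, 10, 9, 11, 8, 11, 5, 7, 7, 4, 4, 1, 1, 2, 2, 0, 0, 0, 14, 13, 15, 10, 10, 9, 10, 10, 8, 10, 5, 6, 5, 7, 7, 2, 2, 1, 3, 3, 3, 3, 3, 12, 15, 12, 9, 10, 9, 10, 5, 5, 6, 4, 6, 2, 0, 0, 0, 3, 3, 3, 0, 12, 12, 14, 14,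 9, 10, 10, 8, 11, 8, 11, 7, 7, 7, 4, 4, 1, 2, 2, 2, 2, 0, 3, 14, 13, 15, 10, 10, 8, 10, 5, 6, 4, 7, 0, 0, 2, 1, 3, 1, 1, 12, 15, 8, 10, 9, 11, 8, 11, 5, 7, 7, 4, 4, 1, 1, 2, 2, 0, 0, 0, 12, 15, 12, 9, 10, 9, 10, 5, 5, 6, 4, 6, 2, 0, 0, 0, 3, 3, 3, 1])]

/-- Part 5 of class representatives with elements moving them to the central one. -/
def fuseListC5 : List (List ℕ × List ℕ) :=
  [([0, 2, 8], [14, 9, 11, 8, 5, 6, 6, 6, 4, 0, 3, 1, 2, 0, 0, 0, 0, 12, 12, 14, 14, 9, 10, 10, 8, 11, 8, 11, 7, 7, 7, 4, 4, 1, 2, 2, 2, 2, 0, 3, 0, 0, 2, 2, 0, 0, 2, 0, 4, 7, 5, 7, 7, 9, 10, 8, 11, 9, 14, 12, 15]),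
    ([0, 1, 2, 4, 10], [15, 8, 10, 8, 11, 9, 7, 4, 7, 4, 4, 6, 0, 3, 1, 1, 1, 2, 14, 12, 14, 8, 11, 9, 10, 10, 4, 6, 5, 7, 5, 2, 1, 2, 0, 0, 0, 0, 14, 13, 15, 8, 10, 9, 11, 8, 6, 6, 4, 6, 5, 1, 3, 1, 1, 3, 3, 1, 1, 15, 8, 10, 8, 11, 9, 7, 4, 7, 4, 4, 6, 0, 3, 1, 1, 1, 2, 13, 8, 10, 9, 9, 9, 11, 4, 6, 4, 6, 6, 0, 2, 2, 0, 3, 1, 2])]

/-- The class representatives with elements moving them to the central one. -/
def fuseList : List (List ℕ × List ℕ) :=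
  fuseListC0 ++ fuseListC1 ++ fuseListC2 ++ fuseListC3 ++ fuseListC4 ++ fuseListC5

/-- Moves of the step 0 for the involutions. -/
def invMoves0 : List (List ℕ × ℕ) :=
  [([], 0),
    ([], 1)]

/-- Classes after the step 0 for the involutions. -/
def invLev1 : List (List ℕ) :=
  [[],
    [0]]

/-- Moves of the step 1 for the involutions. -/
def invMoves1 : List (List ℕ × ℕ) :=
  [([], 0),
    ([], 1),
    ([], 2),
    ([], 3)]

/-- Classes after the step 1 for the involutions. -/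
def invLev2 : List (List ℕ) :=
  [[],
    [1],
    [0],
    [0, 1]]

/-- Moves of the step 2 for the involutions. -/
def invMoves2 : List (List ℕ × ℕ) :=
  [([], 0),
    ([], 1),
    ([], 2),
    ([], 3),
    ([], 4),
    ([], 5),
    ([], 6),
    ([], 7)]

/-- Classes after the step 2 for the involutions. -/
def invLev3 : List (List ℕ) :=
  [[],
    [2],
    [1],
    [1, 2],
    [0],
    [0, 2],
    [0, 1],
    [0, 1, 2]]

/-- Moves of the step 3 for the involutions. -/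
def invMoves3 : List (List ℕ × ℕ) :=
  [([], 0),
    ([], 1),
    ([], 2),
    ([1], 2),
    ([], 3),
    ([0], 3),
    ([], 0),
    ([], 0),
    ([], 4),
    ([1], 4),
    ([], 5),
    ([], 6),
    ([], 0),
    ([], 0),
    ([], 7),
    ([0], 7)]

/-- Classes after the step 3 for the involutions. -/
def invLev4 : List (List ℕ) :=
  [[],
    [3],
    [2],
    [1],
    [0],
    [0, 2],
    [0, 2, 3],
    [0, 1, 2]]

/-- Moves of the step 4 for the involutions. -/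
def invMoves4 : List (List ℕ × ℕ) :=
  [([], 0),
    ([], 1),
    ([], 2),
    ([], 3),
    ([], 4),
    ([0, 4], 4),
    ([], 5),
    ([], 6),
    ([], 0),
    ([], 0),
    ([], 7),
    ([0, 4], 7),
    ([], 8),
    ([0, 4], 8),
    ([], 9),
    ([], 10)]

/-- Classes after the step 4 for the involutions. -/
def invLev5 : List (List ℕ) :=
  [[],
    [4],
    [3],
    [3, 4],
    [2],
    [1],
    [1, 4],
    [0, 2],
    [0, 2, 3],
    [0, 1, 2],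
    [0, 1, 2, 4]]

/-- Moves of the step 5 for the involutions. -/
def invMoves5 : List (List ℕ × ℕ) :=
  [([], 0),
    ([], 1),
    ([], 2),
    ([], 3),
    ([], 4),
    ([], 5),
    ([], 6),
    ([], 7),
    ([], 8),
    ([], 9),
    ([], 0),
    ([], 0),
    ([], 0),
    ([], 0),
    ([], 10),
    ([1, 5], 10),
    ([], 11),
    ([1, 5], 11),
    ([], 12),
    ([1, 5], 12),
    ([], 13),
    ([1, 5], 13)]

/-- Classes after the step 5 for the involutions. -/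
def invLev6 : List (List ℕ) :=
  [[],
    [5],
    [4],
    [4, 5],
    [3],
    [3, 5],
    [3, 4],
    [3, 4, 5],
    [2],
    [2, 5],
    [0, 2],
    [0, 2, 3],
    [0, 1, 2],
    [0, 1, 2, 4]]

/-- Moves of the step 6 for the involutions. -/
def invMoves6 : List (List ℕ × ℕ) :=
  [([], 0),
    ([], 1),
    ([], 2),
    ([], 3),
    ([], 4),
    ([1, 5], 4),
    ([], 5),
    ([1, 5], 5),
    ([], 6),
    ([0, 4], 6),
    ([], 7),
    ([0, 4], 7),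
    ([], 8),
    ([0, 4], 8),
    ([], 9),
    ([0, 4], 9),
    ([], 10),
    ([], 11),
    ([], 12),
    ([], 13),
    ([], 14),
    ([3], 14),
    ([], 0),
    ([], 0),
    ([], 0),
    ([], 0),
    ([], 15),
    ([3], 15)]

/-- Classes after the step 6 for the involutions. -/
def invLev7 : List (List ℕ) :=
  [[],
    [6],
    [5],
    [5, 6],
    [4],
    [4, 5],
    [3],
    [3, 5],
    [3, 4],
    [3, 4, 5],
    [2],
    [2, 6],
    [2, 5],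
    [2, 5, 6],
    [0, 2],
    [0, 1, 2, 4]]

/-- Moves of the step 7 for the involutions. -/
def invMoves7 : List (List ℕ × ℕ) :=
  [([], 0),
    ([], 1),
    ([], 2),
    ([], 3),
    ([], 4),
    ([0, 4], 4),
    ([], 5),
    ([0, 4], 5),
    ([], 6),
    ([], 7),
    ([], 8),
    ([0, 4], 8),
    ([], 9),
    ([1, 5], 9),
    ([], 10),
    ([1, 5], 10),
    ([], 11),
    ([], 12),
    ([], 13),
    ([2], 13),
    ([], 14),
    ([5], 14),
    ([], 15),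
    ([5], 15),
    ([], 0),
    ([], 0),
    ([], 0),
    ([], 0),
    ([], 16),
    ([], 17),
    ([], 18),
    ([], 19)]

/-- Classes after the step 7 for the involutions. -/
def invLev8 : List (List ℕ) :=
  [[],
    [7],
    [6],
    [6, 7],
    [5],
    [5, 6],
    [4],
    [4, 7],
    [4, 5],
    [3],
    [3, 5],
    [3, 4],
    [3, 4, 7],
    [3, 4, 5],
    [2],
    [2, 6],
    [0, 2],
    [0, 2, 7],
    [0, 1, 2, 4],
    [0, 1, 2, 4, 7]]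

/-- Moves of the step 8 for the involutions. -/
def invMoves8 : List (List ℕ × ℕ) :=
  [([], 0),
    ([], 1),
    ([], 2),
    ([], 3),
    ([], 4),
    ([0, 4], 4),
    ([], 5),
    ([0, 4], 5),
    ([], 6),
    ([], 7),
    ([], 8),
    ([], 9),
    ([], 10),
    ([3, 8], 10),
    ([], 11),
    ([3, 8], 11),
    ([], 12),
    ([3, 8], 12),
    ([], 0),
    ([], 0),
    ([], 0),
    ([], 0),
    ([], 13),
    ([2], 13),
    ([], 14),
    ([2], 14),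
    ([], 15),
    ([3, 8], 15),
    ([], 16),
    ([3, 8], 16),
    ([], 0),
    ([], 0),
    ([], 17),
    ([], 18),
    ([], 19),
    ([], 20),
    ([], 21),
    ([], 22),
    ([], 23),
    ([], 24)]

/-- Classes after the step 8 for the involutions. -/
def invLev9 : List (List ℕ) :=
  [[],
    [8],
    [7],
    [7, 8],
    [6],
    [6, 7],
    [5],
    [5, 8],
    [5, 6],
    [5, 6, 8],
    [4],
    [4, 7],
    [4, 5],
    [3, 4],
    [3, 4, 7],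
    [3, 4, 5],
    [2],
    [0, 2],
    [0, 2, 8],
    [0, 2, 7],
    [0, 2, 7, 8],
    [0, 1, 2, 4],
    [0, 1, 2, 4, 8],
    [0, 1, 2, 4, 7],
    [0, 1, 2, 4, 7, 8]]

/-- Moves of the step 9 for the involutions. -/
def invMoves9 : List (List ℕ × ℕ) :=
  [([], 0),
    ([], 1),
    ([], 2),
    ([], 3),
    ([], 4),
    ([0, 4], 4),
    ([], 5),
    ([0, 4], 5),
    ([], 6),
    ([1, 5], 6),
    ([], 7),
    ([], 8),
    ([], 9),
    ([3, 8], 9),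
    ([], 10),
    ([3, 8], 10),
    ([], 11),
    ([1, 5], 11),
    ([], 12),
    ([1, 5], 12),
    ([], 13),
    ([5], 13),
    ([], 14),
    ([0, 4], 14),
    ([], 0),
    ([], 0),
    ([], 15),
    ([], 16),
    ([], 17),
    ([], 18),
    ([], 19),
    ([], 20),
    ([], 21),
    ([], 22),
    ([], 23),
    ([6], 23),
    ([], 24),
    ([6], 24),
    ([], 0),
    ([], 0),
    ([], 0),
    ([], 0),
    ([], 25),
    ([], 26),
    ([], 27),
    ([], 28),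
    ([], 29),
    ([], 30),
    ([], 31),
    ([], 32)]

/-- Classes after the step 9 for the involutions. -/
def invLev10 : List (List ℕ) :=
  [[],
    [9],
    [8],
    [8, 9],
    [7],
    [7, 8],
    [6],
    [6, 7],
    [6, 7, 9],
    [5],
    [5, 8],
    [5, 6],
    [5, 6, 8],
    [4],
    [4, 7],
    [3, 4],
    [3, 4, 9],
    [3, 4, 7],
    [3, 4, 7, 9],
    [3, 4, 5],
    [3, 4, 5, 9],
    [2],
    [2, 9],
    [0, 2],
    [0, 2, 8],
    [0, 1, 2, 4],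
    [0, 1, 2, 4, 9],
    [0, 1, 2, 4, 8],
    [0, 1, 2, 4, 8, 9],
    [0, 1, 2, 4, 7],
    [0, 1, 2, 4, 7, 9],
    [0, 1, 2, 4, 7, 8],
    [0, 1, 2, 4, 7, 8, 9]]

/-- Moves of the step 10 for the involutions. -/
def invMoves10 : List (List ℕ × ℕ) :=
  [([], 0),
    ([], 1),
    ([], 2),
    ([0, 4], 2),
    ([], 3),
    ([0, 4], 3),
    ([], 4),
    ([1, 5], 4),
    ([], 5),
    ([3, 8], 5),
    ([], 6),
    ([3, 8], 6),
    ([], 7),
    ([], 8),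
    ([], 9),
    ([1, 5], 9),
    ([], 10),
    ([1, 5], 10),
    ([], 11),
    ([], 12),
    ([], 13),
    ([1, 5], 13),
    ([], 14),
    ([], 15),
    ([], 16),
    ([1, 3, 5, 7, 10], 16),
    ([], 17),
    ([7], 17),
    ([], 0),
    ([], 0),
    ([], 18),
    ([], 19),
    ([], 20),
    ([0, 1, 3, 4, 8, 10], 20),
    ([], 21),
    ([0, 1, 3, 4, 8, 10], 21),
    ([], 22),
    ([], 23),
    ([], 24),
    ([], 25),
    ([], 26),
    ([], 27),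
    ([], 28),
    ([9], 28),
    ([], 0),
    ([], 0),
    ([], 0),
    ([], 0),
    ([], 29),
    ([8], 29),
    ([], 30),
    ([], 31),
    ([], 32),
    ([], 33),
    ([], 34),
    ([], 35),
    ([], 36),
    ([], 37),
    ([], 38),
    ([], 39),
    ([], 40),
    ([], 41),
    ([], 42),
    ([], 43),
    ([], 44),
    ([], 45)]

/-- Classes after the step 10 for the involutions. -/
def invLev11 : List (List ℕ) :=
  [[],
    [10],
    [9],
    [8],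
    [8, 9],
    [7],
    [7, 8],
    [6],
    [6, 10],
    [6, 7],
    [6, 7, 9],
    [5],
    [5, 10],
    [5, 8],
    [5, 6],
    [5, 6, 10],
    [5, 6, 8],
    [4],
    [3, 4],
    [3, 4, 10],
    [3, 4, 9],
    [3, 4, 7],
    [3, 4, 7, 9],
    [3, 4, 7, 9, 10],
    [3, 4, 5],
    [3, 4, 5, 10],
    [3, 4, 5, 9],
    [3, 4, 5, 9, 10],
    [2],
    [0, 2, 8],
    [0, 1, 2, 4],
    [0, 1, 2, 4, 10],
    [0, 1, 2, 4, 9],
    [0, 1, 2, 4, 9, 10],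
    [0, 1, 2, 4, 8],
    [0, 1, 2, 4, 8, 10],
    [0, 1, 2, 4, 8, 9],
    [0, 1, 2, 4, 8, 9, 10],
    [0, 1, 2, 4, 7],
    [0, 1, 2, 4, 7, 10],
    [0, 1, 2, 4, 7, 9],
    [0, 1, 2, 4, 7, 9, 10],
    [0, 1, 2, 4, 7, 8],
    [0, 1, 2, 4, 7, 8, 10],
    [0, 1, 2, 4, 7, 8, 9],
    [0, 1, 2, 4, 7, 8, 9, 10]]

/-- Moves of the step 11 for the involutions. -/
def invMoves11 : List (List ℕ × ℕ) :=
  [([], 0),
    ([], 1),
    ([], 2),
    ([1, 5, 11], 2),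
    ([], 3),
    ([3, 8], 3),
    ([], 4),
    ([5, 11], 4),
    ([], 5),
    ([3, 8], 5),
    ([], 6),
    ([6], 6),
    ([], 7),
    ([5, 11], 7),
    ([], 8),
    ([5, 11], 8),
    ([], 9),
    ([5, 11], 9),
    ([], 0),
    ([], 0),
    ([], 0),
    ([], 0),
    ([], 0),
    ([], 0),
    ([], 0),
    ([], 0),
    ([], 10),
    ([5, 11], 10),
    ([], 11),
    ([5, 11], 11),
    ([], 12),
    ([5, 11], 12),
    ([], 0),
    ([], 0),
    ([], 13),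
    ([], 14),
    ([], 15),
    ([5, 11], 15),
    ([], 16),
    ([5, 11], 16),
    ([], 0),
    ([], 0),
    ([], 0),
    ([], 0),
    ([], 17),
    ([5, 11], 17),
    ([], 18),
    ([5, 11], 18),
    ([], 19),
    ([5, 11], 19),
    ([], 20),
    ([5, 11], 20),
    ([], 0),
    ([], 0),
    ([], 0),
    ([], 0),
    ([], 21),
    ([], 22),
    ([], 23),
    ([5, 11], 23),
    ([], 0),
    ([], 0),
    ([], 24),
    ([7], 24),
    ([], 25),
    ([7], 25),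
    ([], 0),
    ([], 0),
    ([], 0),
    ([], 0),
    ([], 26),
    ([5, 11], 26),
    ([], 27),
    ([5, 11], 27),
    ([], 0),
    ([], 0),
    ([], 28),
    ([6], 28),
    ([], 0),
    ([], 0),
    ([], 0),
    ([], 0),
    ([], 29),
    ([6], 29),
    ([], 30),
    ([5, 11], 30),
    ([], 0),
    ([], 0),
    ([], 0),
    ([], 0),
    ([], 31),
    ([5, 11], 31)]

/-- Classes after the step 11 for the involutions. -/
def invLev12 : List (List ℕ) :=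
  [[],
    [11],
    [10],
    [9],
    [8],
    [8, 9],
    [7],
    [7, 8],
    [6],
    [6, 10],
    [5, 8],
    [5, 6],
    [5, 6, 10],
    [4],
    [4, 11],
    [3, 4],
    [3, 4, 10],
    [3, 4, 7, 9],
    [3, 4, 7, 9, 10],
    [3, 4, 5],
    [3, 4, 5, 10],
    [2],
    [2, 11],
    [0, 2, 8],
    [0, 1, 2, 4, 10],
    [0, 1, 2, 4, 9],
    [0, 1, 2, 4, 8, 10],
    [0, 1, 2, 4, 8, 9],
    [0, 1, 2, 4, 7],
    [0, 1, 2, 4, 7, 9, 10],
    [0, 1, 2, 4, 7, 8],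
    [0, 1, 2, 4, 7, 8, 9, 10]]

/-- Moves of the step 12 for the involutions. -/
def invMoves12 : List (List ℕ × ℕ) :=
  [([], 0),
    ([], 1),
    ([], 2),
    ([0, 4], 2),
    ([], 3),
    ([3, 8, 12], 3),
    ([], 4),
    ([1, 5, 11], 4),
    ([], 5),
    ([7], 5),
    ([], 6),
    ([7], 6),
    ([], 7),
    ([5, 11], 7),
    ([], 0),
    ([], 0),
    ([], 0),
    ([], 0),
    ([], 0),
    ([], 0),
    ([], 8),
    ([3, 4, 8, 12], 8),
    ([], 9),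
    ([1, 3, 5, 8, 9, 10, 12], 9),
    ([], 10),
    ([1, 4, 5, 9, 10, 11, 12], 10),
    ([], 11),
    ([6, 12], 11),
    ([], 12),
    ([0, 4], 12),
    ([], 0),
    ([], 0),
    ([], 13),
    ([6, 12], 13),
    ([], 14),
    ([8], 14),
    ([], 0),
    ([], 0),
    ([], 15),
    ([10], 15),
    ([], 0),
    ([], 0),
    ([], 16),
    ([11], 16),
    ([], 0),
    ([], 0),
    ([], 17),
    ([], 18),
    ([], 19),
    ([5, 11], 19),
    ([], 0),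
    ([], 0),
    ([], 0),
    ([], 0),
    ([], 20),
    ([8], 20),
    ([], 21),
    ([3, 4, 12], 21),
    ([], 0),
    ([], 0),
    ([], 22),
    ([3, 4, 12], 22),
    ([], 0),
    ([], 0)]

/-- Classes after the step 12 for the involutions. -/
def invLev13 : List (List ℕ) :=
  [[],
    [12],
    [11],
    [10],
    [9],
    [8],
    [8, 9],
    [7],
    [5, 8],
    [5, 6],
    [5, 6, 10],
    [4],
    [4, 11],
    [3, 4, 10],
    [3, 4, 7, 9],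
    [3, 4, 5],
    [2],
    [0, 2, 8],
    [0, 2, 8, 12],
    [0, 1, 2, 4, 10],
    [0, 1, 2, 4, 8, 9],
    [0, 1, 2, 4, 7],
    [0, 1, 2, 4, 7, 8]]

/-- Moves of the step 13 for the involutions. -/
def invMoves13 : List (List ℕ × ℕ) :=
  [([], 0),
    ([], 1),
    ([], 2),
    ([0, 4], 2),
    ([], 3),
    ([3, 8, 12, 13], 3),
    ([], 4),
    ([6, 12], 4),
    ([], 5),
    ([5, 11], 5),
    ([], 6),
    ([9], 6),
    ([], 0),
    ([], 0),
    ([], 0),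
    ([], 0),
    ([], 0),
    ([], 0),
    ([], 0),
    ([], 0),
    ([], 7),
    ([9], 7),
    ([], 8),
    ([11], 8),
    ([], 0),
    ([], 0),
    ([], 9),
    ([5, 9, 11, 13], 9),
    ([], 0),
    ([], 0),
    ([], 10),
    ([5, 7, 11, 12], 10),
    ([], 11),
    ([7, 13], 11),
    ([], 12),
    ([12], 12),
    ([], 0),
    ([], 0),
    ([], 13),
    ([6, 12], 13),
    ([], 14),
    ([3, 4, 12, 13], 14),
    ([], 0),
    ([], 0),
    ([], 15),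
    ([8], 15)]

/-- Classes after the step 13 for the involutions. -/
def invLev14 : List (List ℕ) :=
  [[],
    [13],
    [12],
    [11],
    [10],
    [9],
    [8],
    [5, 6, 10],
    [4],
    [3, 4, 10],
    [3, 4, 5],
    [2],
    [0, 2, 8],
    [0, 1, 2, 4, 10],
    [0, 1, 2, 4, 8, 9],
    [0, 1, 2, 4, 7, 8]]

/-- Moves of the step 14 for the involutions. -/
def invMoves14 : List (List ℕ × ℕ) :=
  [([], 0),
    ([], 1),
    ([], 2),
    ([], 3),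
    ([], 4),
    ([], 5),
    ([], 6),
    ([], 7),
    ([], 8),
    ([], 9),
    ([], 10),
    ([], 11),
    ([], 12),
    ([], 13),
    ([], 14),
    ([], 15),
    ([], 16),
    ([], 17),
    ([], 18),
    ([], 19),
    ([], 0),
    ([], 0),
    ([], 20),
    ([], 21),
    ([], 22),
    ([], 23),
    ([], 24),
    ([], 25),
    ([], 0),
    ([], 0),
    ([], 0),
    ([], 0)]

/-- Classes after the step 14 for the involutions. -/
def invLev15 : List (List ℕ) :=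
  [[],
    [14],
    [13],
    [13, 14],
    [12],
    [12, 14],
    [11],
    [11, 14],
    [10],
    [10, 14],
    [9],
    [9, 14],
    [8],
    [8, 14],
    [5, 6, 10],
    [5, 6, 10, 14],
    [4],
    [4, 14],
    [3, 4, 10],
    [3, 4, 10, 14],
    [2],
    [2, 14],
    [0, 2, 8],
    [0, 2, 8, 14],
    [0, 1, 2, 4, 10],
    [0, 1, 2, 4, 10, 14]]

/-- Classes of involutions at each level. -/
def invLev : ℕ → List (List ℕ)
  | 0 => [[]]
  | 1 => invLev1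
  | 2 => invLev2
  | 3 => invLev3
  | 4 => invLev4
  | 5 => invLev5
  | 6 => invLev6
  | 7 => invLev7
  | 8 => invLev8
  | 9 => invLev9
  | 10 => invLev10
  | 11 => invLev11
  | 12 => invLev12
  | 13 => invLev13
  | 14 => invLev14
  | 15 => invLev15
  | _ => []

/-- Moves of the involutions at each level. -/
def invMoves : ℕ → List (List ℕ × ℕ)
  | 0 => invMoves0
  | 1 => invMoves1
  | 2 => invMoves2
  | 3 => invMoves3
  | 4 => invMoves4
  | 5 => invMoves5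
  | 6 => invMoves6
  | 7 => invMoves7
  | 8 => invMoves8
  | 9 => invMoves9
  | 10 => invMoves10
  | 11 => invMoves11
  | 12 => invMoves12
  | 13 => invMoves13
  | 14 => invMoves14
  | _ => []

/-- Moves of the step 0 for the roots of the central generator. -/
def rootMoves0 : List (List ℕ × ℕ) :=
  [([], 0),
    ([], 1)]

/-- Classes after the step 0 for the roots of the central generator. -/
def rootLev1 : List (List ℕ) :=
  [[],
    [0]]

/-- Moves of the step 1 for the roots of the central generator. -/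
def rootMoves1 : List (List ℕ × ℕ) :=
  [([], 0),
    ([], 1),
    ([], 2),
    ([], 3)]

/-- Classes after the step 1 for the roots of the central generator. -/
def rootLev2 : List (List ℕ) :=
  [[],
    [1],
    [0],
    [0, 1]]

/-- Moves of the step 2 for the roots of the central generator. -/
def rootMoves2 : List (List ℕ × ℕ) :=
  [([], 0),
    ([], 1),
    ([], 2),
    ([], 3),
    ([], 4),
    ([], 5),
    ([], 6),
    ([], 7)]

/-- Classes after the step 2 for the roots of the central generator. -/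
def rootLev3 : List (List ℕ) :=
  [[],
    [2],
    [1],
    [1, 2],
    [0],
    [0, 2],
    [0, 1],
    [0, 1, 2]]

/-- Moves of the step 3 for the roots of the central generator. -/
def rootMoves3 : List (List ℕ × ℕ) :=
  [([], 0),
    ([], 1),
    ([], 2),
    ([1], 2),
    ([], 3),
    ([0], 3),
    ([], 0),
    ([], 0),
    ([], 4),
    ([1], 4),
    ([], 5),
    ([], 6),
    ([], 0),
    ([], 0),
    ([], 7),
    ([0], 7)]

/-- Classes after the step 3 for the roots of the central generator. -/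
def rootLev4 : List (List ℕ) :=
  [[],
    [3],
    [2],
    [1],
    [0],
    [0, 2],
    [0, 2, 3],
    [0, 1, 2]]

/-- Moves of the step 4 for the roots of the central generator. -/
def rootMoves4 : List (List ℕ × ℕ) :=
  [([], 0),
    ([], 1),
    ([], 2),
    ([], 3),
    ([], 4),
    ([0, 4], 4),
    ([], 5),
    ([], 6),
    ([], 0),
    ([], 0),
    ([], 7),
    ([0, 4], 7),
    ([], 8),
    ([0, 4], 8),
    ([], 9),
    ([], 10)]

/-- Classes after the step 4 for the roots of the central generator. -/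
def rootLev5 : List (List ℕ) :=
  [[],
    [4],
    [3],
    [3, 4],
    [2],
    [1],
    [1, 4],
    [0, 2],
    [0, 2, 3],
    [0, 1, 2],
    [0, 1, 2, 4]]

/-- Moves of the step 5 for the roots of the central generator. -/
def rootMoves5 : List (List ℕ × ℕ) :=
  [([], 0),
    ([], 1),
    ([], 2),
    ([], 3),
    ([], 4),
    ([], 5),
    ([], 6),
    ([], 7),
    ([], 8),
    ([], 9),
    ([], 0),
    ([], 0),
    ([], 0),
    ([], 0),
    ([], 10),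
    ([1, 5], 10),
    ([], 11),
    ([1, 5], 11),
    ([], 12),
    ([1, 5], 12),
    ([], 13),
    ([1, 5], 13)]

/-- Classes after the step 5 for the roots of the central generator. -/
def rootLev6 : List (List ℕ) :=
  [[],
    [5],
    [4],
    [4, 5],
    [3],
    [3, 5],
    [3, 4],
    [3, 4, 5],
    [2],
    [2, 5],
    [0, 2],
    [0, 2, 3],
    [0, 1, 2],
    [0, 1, 2, 4]]

/-- Moves of the step 6 for the roots of the central generator. -/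
def rootMoves6 : List (List ℕ × ℕ) :=
  [([], 0),
    ([], 1),
    ([], 2),
    ([], 3),
    ([], 4),
    ([1, 5], 4),
    ([], 5),
    ([1, 5], 5),
    ([], 6),
    ([0, 4], 6),
    ([], 7),
    ([0, 4], 7),
    ([], 8),
    ([0, 4], 8),
    ([], 9),
    ([0, 4], 9),
    ([], 10),
    ([], 11),
    ([], 12),
    ([], 13),
    ([], 14),
    ([3], 14),
    ([], 0),
    ([], 0),
    ([], 0),
    ([], 0),
    ([], 15),
    ([3], 15)]

/-- Classes after the step 6 for the roots of the central generator. -/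
def rootLev7 : List (List ℕ) :=
  [[],
    [6],
    [5],
    [5, 6],
    [4],
    [4, 5],
    [3],
    [3, 5],
    [3, 4],
    [3, 4, 5],
    [2],
    [2, 6],
    [2, 5],
    [2, 5, 6],
    [0, 2],
    [0, 1, 2, 4]]

/-- Moves of the step 7 for the roots of the central generator. -/
def rootMoves7 : List (List ℕ × ℕ) :=
  [([], 0),
    ([], 1),
    ([], 2),
    ([], 3),
    ([], 4),
    ([0, 4], 4),
    ([], 5),
    ([0, 4], 5),
    ([], 6),
    ([], 7),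
    ([], 8),
    ([0, 4], 8),
    ([], 9),
    ([1, 5], 9),
    ([], 10),
    ([1, 5], 10),
    ([], 11),
    ([], 12),
    ([], 13),
    ([2], 13),
    ([], 14),
    ([5], 14),
    ([], 15),
    ([5], 15),
    ([], 0),
    ([], 0),
    ([], 0),
    ([], 0),
    ([], 16),
    ([], 17),
    ([], 18),
    ([], 19)]

/-- Classes after the step 7 for the roots of the central generator. -/
def rootLev8 : List (List ℕ) :=
  [[],
    [7],
    [6],
    [6, 7],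
    [5],
    [5, 6],
    [4],
    [4, 7],
    [4, 5],
    [3],
    [3, 5],
    [3, 4],
    [3, 4, 7],
    [3, 4, 5],
    [2],
    [2, 6],
    [0, 2],
    [0, 2, 7],
    [0, 1, 2, 4],
    [0, 1, 2, 4, 7]]

/-- Moves of the step 8 for the roots of the central generator. -/
def rootMoves8 : List (List ℕ × ℕ) :=
  [([], 0),
    ([], 1),
    ([], 2),
    ([], 3),
    ([], 4),
    ([0, 4], 4),
    ([], 5),
    ([0, 4], 5),
    ([], 6),
    ([], 7),
    ([], 8),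
    ([], 9),
    ([], 10),
    ([3, 8], 10),
    ([], 11),
    ([3, 8], 11),
    ([], 12),
    ([3, 8], 12),
    ([], 0),
    ([], 0),
    ([], 0),
    ([], 0),
    ([], 13),
    ([2], 13),
    ([], 14),
    ([2], 14),
    ([], 15),
    ([3, 8], 15),
    ([], 16),
    ([3, 8], 16),
    ([], 0),
    ([], 0),
    ([], 17),
    ([], 18),
    ([], 19),
    ([], 20),
    ([], 21),
    ([], 22),
    ([], 23),
    ([], 24)]

/-- Classes after the step 8 for the roots of the central generator. -/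
def rootLev9 : List (List ℕ) :=
  [[],
    [8],
    [7],
    [7, 8],
    [6],
    [6, 7],
    [5],
    [5, 8],
    [5, 6],
    [5, 6, 8],
    [4],
    [4, 7],
    [4, 5],
    [3, 4],
    [3, 4, 7],
    [3, 4, 5],
    [2],
    [0, 2],
    [0, 2, 8],
    [0, 2, 7],
    [0, 2, 7, 8],
    [0, 1, 2, 4],
    [0, 1, 2, 4, 8],
    [0, 1, 2, 4, 7],
    [0, 1, 2, 4, 7, 8]]

/-- Moves of the step 9 for the roots of the central generator. -/
def rootMoves9 : List (List ℕ × ℕ) :=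
  [([], 0),
    ([], 1),
    ([], 2),
    ([], 3),
    ([], 4),
    ([0, 4], 4),
    ([], 5),
    ([0, 4], 5),
    ([], 6),
    ([1, 5], 6),
    ([], 7),
    ([], 8),
    ([], 9),
    ([3, 8], 9),
    ([], 10),
    ([3, 8], 10),
    ([], 11),
    ([1, 5], 11),
    ([], 12),
    ([1, 5], 12),
    ([], 13),
    ([5], 13),
    ([], 14),
    ([0, 4], 14),
    ([], 0),
    ([], 0),
    ([], 15),
    ([], 16),
    ([], 17),
    ([], 18),
    ([], 19),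
    ([], 20),
    ([], 21),
    ([], 22),
    ([], 23),
    ([6], 23),
    ([], 24),
    ([6], 24),
    ([], 0),
    ([], 0),
    ([], 0),
    ([], 0),
    ([], 25),
    ([], 26),
    ([], 27),
    ([], 28),
    ([], 29),
    ([], 30),
    ([], 31),
    ([], 32)]

/-- Classes after the step 9 for the roots of the central generator. -/
def rootLev10 : List (List ℕ) :=
  [[],
    [9],
    [8],
    [8, 9],
    [7],
    [7, 8],
    [6],
    [6, 7],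
    [6, 7, 9],
    [5],
    [5, 8],
    [5, 6],
    [5, 6, 8],
    [4],
    [4, 7],
    [3, 4],
    [3, 4, 9],
    [3, 4, 7],
    [3, 4, 7, 9],
    [3, 4, 5],
    [3, 4, 5, 9],
    [2],
    [2, 9],
    [0, 2],
    [0, 2, 8],
    [0, 1, 2, 4],
    [0, 1, 2, 4, 9],
    [0, 1, 2, 4, 8],
    [0, 1, 2, 4, 8, 9],
    [0, 1, 2, 4, 7],
    [0, 1, 2, 4, 7, 9],
    [0, 1, 2, 4, 7, 8],
    [0, 1, 2, 4, 7, 8, 9]]

/-- Moves of the step 10 for the roots of the central generator. -/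
def rootMoves10 : List (List ℕ × ℕ) :=
  [([], 0),
    ([], 1),
    ([], 2),
    ([0, 4], 2),
    ([], 3),
    ([0, 4], 3),
    ([], 4),
    ([1, 5], 4),
    ([], 5),
    ([3, 8], 5),
    ([], 6),
    ([3, 8], 6),
    ([], 7),
    ([], 8),
    ([], 9),
    ([1, 5], 9),
    ([], 10),
    ([1, 5], 10),
    ([], 11),
    ([], 12),
    ([], 13),
    ([1, 5], 13),
    ([], 14),
    ([], 15),
    ([], 16),
    ([1, 3, 5, 7, 10], 16),
    ([], 17),
    ([7], 17),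
    ([], 0),
    ([], 0),
    ([], 18),
    ([], 19),
    ([], 20),
    ([0, 1, 3, 4, 8, 10], 20),
    ([], 21),
    ([0, 1, 3, 4, 8, 10], 21),
    ([], 22),
    ([], 23),
    ([], 24),
    ([], 25),
    ([], 26),
    ([], 27),
    ([], 28),
    ([9], 28),
    ([], 0),
    ([], 0),
    ([], 0),
    ([], 0),
    ([], 29),
    ([8], 29),
    ([], 30),
    ([], 31),
    ([], 32),
    ([], 33),
    ([], 34),
    ([], 35),
    ([], 36),
    ([], 37),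
    ([], 38),
    ([], 39),
    ([], 40),
    ([], 41),
    ([], 42),
    ([], 43),
    ([], 44),
    ([], 45)]

/-- Classes after the step 10 for the roots of the central generator. -/
def rootLev11 : List (List ℕ) :=
  [[],
    [10],
    [9],
    [8],
    [8, 9],
    [7],
    [7, 8],
    [6],
    [6, 10],
    [6, 7],
    [6, 7, 9],
    [5],
    [5, 10],
    [5, 8],
    [5, 6],
    [5, 6, 10],
    [5, 6, 8],
    [4],
    [3, 4],
    [3, 4, 10],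
    [3, 4, 9],
    [3, 4, 7],
    [3, 4, 7, 9],
    [3, 4, 7, 9, 10],
    [3, 4, 5],
    [3, 4, 5, 10],
    [3, 4, 5, 9],
    [3, 4, 5, 9, 10],
    [2],
    [0, 2, 8],
    [0, 1, 2, 4],
    [0, 1, 2, 4, 10],
    [0, 1, 2, 4, 9],
    [0, 1, 2, 4, 9, 10],
    [0, 1, 2, 4, 8],
    [0, 1, 2, 4, 8, 10],
    [0, 1, 2, 4, 8, 9],
    [0, 1, 2, 4, 8, 9, 10],
    [0, 1, 2, 4, 7],
    [0, 1, 2, 4, 7, 10],
    [0, 1, 2, 4, 7, 9],
    [0, 1, 2, 4, 7, 9, 10],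
    [0, 1, 2, 4, 7, 8],
    [0, 1, 2, 4, 7, 8, 10],
    [0, 1, 2, 4, 7, 8, 9],
    [0, 1, 2, 4, 7, 8, 9, 10]]

/-- Moves of the step 11 for the roots of the central generator. -/
def rootMoves11 : List (List ℕ × ℕ) :=
  [([], 0),
    ([], 1),
    ([], 2),
    ([1, 5, 11], 2),
    ([], 3),
    ([3, 8], 3),
    ([], 4),
    ([5, 11], 4),
    ([], 5),
    ([3, 8], 5),
    ([], 6),
    ([6], 6),
    ([], 7),
    ([5, 11], 7),
    ([], 8),
    ([5, 11], 8),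
    ([], 9),
    ([5, 11], 9),
    ([], 0),
    ([], 0),
    ([], 0),
    ([], 0),
    ([], 0),
    ([], 0),
    ([], 0),
    ([], 0),
    ([], 10),
    ([5, 11], 10),
    ([], 11),
    ([5, 11], 11),
    ([], 12),
    ([5, 11], 12),
    ([], 0),
    ([], 0),
    ([], 13),
    ([], 14),
    ([], 15),
    ([5, 11], 15),
    ([], 16),
    ([5, 11], 16),
    ([], 0),
    ([], 0),
    ([], 0),
    ([], 0),
    ([], 17),
    ([5, 11], 17),
    ([], 18),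
    ([5, 11], 18),
    ([], 19),
    ([5, 11], 19),
    ([], 20),
    ([5, 11], 20),
    ([], 0),
    ([], 0),
    ([], 0),
    ([], 0),
    ([], 21),
    ([], 22),
    ([], 23),
    ([5, 11], 23),
    ([], 0),
    ([], 0),
    ([], 24),
    ([7], 24),
    ([], 25),
    ([7], 25),
    ([], 0),
    ([], 0),
    ([], 0),
    ([], 0),
    ([], 26),
    ([5, 11], 26),
    ([], 27),
    ([5, 11], 27),
    ([], 0),
    ([], 0),
    ([], 28),
    ([6], 28),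
    ([], 0),
    ([], 0),
    ([], 0),
    ([], 0),
    ([], 29),
    ([6], 29),
    ([], 30),
    ([5, 11], 30),
    ([], 0),
    ([], 0),
    ([], 0),
    ([], 0),
    ([], 31),
    ([5, 11], 31)]

/-- Classes after the step 11 for the roots of the central generator. -/
def rootLev12 : List (List ℕ) :=
  [[],
    [11],
    [10],
    [9],
    [8],
    [8, 9],
    [7],
    [7, 8],
    [6],
    [6, 10],
    [5, 8],
    [5, 6],
    [5, 6, 10],
    [4],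
    [4, 11],
    [3, 4],
    [3, 4, 10],
    [3, 4, 7, 9],
    [3, 4, 7, 9, 10],
    [3, 4, 5],
    [3, 4, 5, 10],
    [2],
    [2, 11],
    [0, 2, 8],
    [0, 1, 2, 4, 10],
    [0, 1, 2, 4, 9],
    [0, 1, 2, 4, 8, 10],
    [0, 1, 2, 4, 8, 9],
    [0, 1, 2, 4, 7],
    [0, 1, 2, 4, 7, 9, 10],
    [0, 1, 2, 4, 7, 8],
    [0, 1, 2, 4, 7, 8, 9, 10]]

/-- Moves of the step 12 for the roots of the central generator. -/
def rootMoves12 : List (List ℕ × ℕ) :=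
  [([], 0),
    ([], 1),
    ([], 2),
    ([0, 4], 2),
    ([], 3),
    ([3, 8, 12], 3),
    ([], 4),
    ([1, 5, 11], 4),
    ([], 5),
    ([7], 5),
    ([], 6),
    ([7], 6),
    ([], 7),
    ([5, 11], 7),
    ([], 0),
    ([], 0),
    ([], 0),
    ([], 0),
    ([], 0),
    ([], 0),
    ([], 8),
    ([3, 4, 8, 12], 8),
    ([], 9),
    ([1, 3, 5, 8, 9, 10, 12], 9),
    ([], 10),
    ([1, 4, 5, 9, 10, 11, 12], 10),
    ([], 11),
    ([6, 12], 11),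
    ([], 12),
    ([0, 4], 12),
    ([], 0),
    ([], 0),
    ([], 13),
    ([6, 12], 13),
    ([], 14),
    ([8], 14),
    ([], 0),
    ([], 0),
    ([], 15),
    ([10], 15),
    ([], 0),
    ([], 0),
    ([], 16),
    ([11], 16),
    ([], 0),
    ([], 0),
    ([], 17),
    ([], 18),
    ([], 19),
    ([5, 11], 19),
    ([], 0),
    ([], 0),
    ([], 0),
    ([], 0),
    ([], 20),
    ([8], 20),
    ([], 21),
    ([3, 4, 12], 21),
    ([], 0),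
    ([], 0),
    ([], 22),
    ([3, 4, 12], 22),
    ([], 0),
    ([], 0)]

/-- Classes after the step 12 for the roots of the central generator. -/
def rootLev13 : List (List ℕ) :=
  [[],
    [12],
    [11],
    [10],
    [9],
    [8],
    [8, 9],
    [7],
    [5, 8],
    [5, 6],
    [5, 6, 10],
    [4],
    [4, 11],
    [3, 4, 10],
    [3, 4, 7, 9],
    [3, 4, 5],
    [2],
    [0, 2, 8],
    [0, 2, 8, 12],
    [0, 1, 2, 4, 10],
    [0, 1, 2, 4, 8, 9],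
    [0, 1, 2, 4, 7],
    [0, 1, 2, 4, 7, 8]]

/-- Moves of the step 13 for the roots of the central generator. -/
def rootMoves13 : List (List ℕ × ℕ) :=
  [([], 0),
    ([], 1),
    ([], 2),
    ([0, 4], 2),
    ([], 3),
    ([3, 8, 12, 13], 3),
    ([], 4),
    ([6, 12], 4),
    ([], 5),
    ([5, 11], 5),
    ([], 6),
    ([9], 6),
    ([], 0),
    ([], 0),
    ([], 0),
    ([], 0),
    ([], 0),
    ([], 0),
    ([], 0),
    ([], 0),
    ([], 7),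
    ([9], 7),
    ([], 8),
    ([11], 8),
    ([], 0),
    ([], 0),
    ([], 9),
    ([5, 9, 11, 13], 9),
    ([], 0),
    ([], 0),
    ([], 10),
    ([5, 7, 11, 12], 10),
    ([], 11),
    ([7, 13], 11),
    ([], 12),
    ([12], 12),
    ([], 0),
    ([], 0),
    ([], 13),
    ([6, 12], 13),
    ([], 14),
    ([3, 4, 12, 13], 14),
    ([], 0),
    ([], 0),
    ([], 15),
    ([8], 15)]

/-- Classes after the step 13 for the roots of the central generator. -/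
def rootLev14 : List (List ℕ) :=
  [[],
    [13],
    [12],
    [11],
    [10],
    [9],
    [8],
    [5, 6, 10],
    [4],
    [3, 4, 10],
    [3, 4, 5],
    [2],
    [0, 2, 8],
    [0, 1, 2, 4, 10],
    [0, 1, 2, 4, 8, 9],
    [0, 1, 2, 4, 7, 8]]

/-- Moves of the step 14 for the roots of the central generator. -/
def rootMoves14 : List (List ℕ × ℕ) :=
  [([], 0),
    ([], 0),
    ([], 0),
    ([], 0),
    ([], 0),
    ([], 0),
    ([], 0),
    ([], 0),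
    ([], 0),
    ([], 0),
    ([], 0),
    ([], 0),
    ([], 0),
    ([], 0),
    ([], 0),
    ([], 0),
    ([], 0),
    ([], 0),
    ([], 0),
    ([], 0),
    ([], 0),
    ([5, 9, 11, 13], 0),
    ([], 0),
    ([], 0),
    ([], 0),
    ([], 0),
    ([], 0),
    ([], 0),
    ([], 1),
    ([6, 12, 14], 1),
    ([], 2),
    ([5, 9, 11, 13], 2)]

/-- Classes after the step 14 for the roots of the central generator. -/
def rootLev15 : List (List ℕ) :=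
  [[3, 4, 5],
    [0, 1, 2, 4, 8, 9],
    [0, 1, 2, 4, 7, 8]]

/-- Classes of roots of the central generator at each level. -/
def rootLev : ℕ → List (List ℕ)
  | 0 => [[]]
  | 1 => rootLev1
  | 2 => rootLev2
  | 3 => rootLev3
  | 4 => rootLev4
  | 5 => rootLev5
  | 6 => rootLev6
  | 7 => rootLev7
  | 8 => rootLev8
  | 9 => rootLev9
  | 10 => rootLev10
  | 11 => rootLev11
  | 12 => rootLev12
  | 13 => rootLev13
  | 14 => rootLev14
  | 15 => rootLev15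
  | _ => []

/-- Moves of the roots of the central generator at each level. -/
def rootMoves : ℕ → List (List ℕ × ℕ)
  | 0 => rootMoves0
  | 1 => rootMoves1
  | 2 => rootMoves2
  | 3 => rootMoves3
  | 4 => rootMoves4
  | 5 => rootMoves5
  | 6 => rootMoves6
  | 7 => rootMoves7
  | 8 => rootMoves8
  | 9 => rootMoves9
  | 10 => rootMoves10
  | 11 => rootMoves11
  | 12 => rootMoves12
  | 13 => rootMoves13
  | 14 => rootMoves14
  | _ => []

/-- The index of a relation of the cover. -/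
def rix2 (a b : ℕ) : ℕ := if a = b then a else 15 + b * (29 - b) / 2 + (a - b - 1)

/-- The presentation of the Sylow subgroup of the cover. -/
def cert2 : SylowTail.Data where
  n := 15
  rels := rels
  rix := rix2
  pairs := []
  eqns := []
  yv := []
  wv := []
  mv := []
  umat := []
  jmat := []
  den := 1
  ycomb := []
  zcomb := []
  fuel := 5000

end Cfsg.Agent.RuStandard47
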