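import Cfsg.Agent.RuStandard47.PcTree
import Cfsg.Agent.RuStandard47.Data
import Cfsg.Agent.RuMult82.Sylow

/-!
The checks made on the data.
-/

set_option autoImplicit false
set_option maxRecDepth 100000

namespace Cfsg.Agent.RuStandard47

open Cfsg.Agent.CosetEnum Cfsg.Agent.SylowTail Cfsg.Agent.SporB.Ru
open Cfsg.Agent.RuMult82 (cert expand small)

/-- Collect in the Sylow subgroup of the simple group, with tails. -/
def col (side : Bool) (w : List ℕ) : Option (List ℕ × List ℕ) :=
  collect cert.rels cert.rix side cert.fuel w []

/-- Subtract modulo four. -/
def subv (a b : List ℕ) : List ℕ := addv a (smul 3 b)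

/-- The vector of an equation; zero if the words do not collect alike. -/
def eqv : TEq → List ℕ
  | .cons w => match col true w, col false w with
    | some (e, t), some (f, u) => if e = f then subv t u else []
    | _, _ => []
  | .sq _ u v => match col true (u ++ u), col true (v ++ v) with
    | some (e, t), some (f, s) => if e = [] ∧ f = [] then subv t s else []
    | _, _ => []
  | .com _ s1 s2 d1 d2 =>
    match col true (s1 ++ s2), col true (s2 ++ s1), col true (d1 ++ d2), col true (d2 ++ d1) with
    | some (e, t1), some (e', t2), some (f, u1), some (f', u2) =>
      if e = e' ∧ f = f' then subv (subv t1 t2) (subv u1 u2) else []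
    | _, _, _, _ => []

/-- The word of a conjugating element. -/
def cw (j : ℕ) : List ℕ := conjWords.getD j []

/-- The fusion used by an equation. -/
noncomputable def fusOK : TEq → Bool
  | .cons _ => true
  | .sq j u v => agree (expand u ++ cw j) (cw j ++ expand v)
  | .com j s1 s2 d1 d2 => agree (expand s1 ++ cw j) (cw j ++ expand d1) &&
      agree (expand s2 ++ cw j) (cw j ++ expand d2)

/-- The shift of a word. -/
def sv (w : List ℕ) : List ℕ := w.foldr (fun q t => addv (shifts.getD q []) t) []

/-- A combination of the equations. -/
def combT (vs : List (List ℕ)) (c : List ℕ) : List ℕ := c.foldr (fun k t => addv (vs.getD k []) t) []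

/-- All entries are even. -/
def evenv (v : List ℕ) : Bool := v.all fun x => x % 2 == 0

/-- The check of one tail. -/
def tailOK (vs : List (List ℕ)) (r : ℕ) : Bool :=
  let rel := cert.rels.getD r ([], [])
  (rel.1 ++ rel.2).all (fun q => Nat.blt q 14) &&
    evenv (addv (bump r []) (addv (sv rel.1) (addv (sv rel.2)
      (addv (if tails.getD r false then shifts.getD 14 [] else []) (combT vs (combs.getD r []))))))

/-- The relations of the cover are those of the simple group with the tails. -/
def relsOK : Bool :=
  (List.range cert2.rels.length).all fun k =>
    let p := cert2.rels.getD k ([], [])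
    p.1.contains 14 ||
      (List.range cert.rels.length).any fun r =>
        p.1 == (cert.rels.getD r ([], [])).1 &&
          p.2 == (cert.rels.getD r ([], [])).2 ++ (if tails.getD r false then [14] else [])

/-- The relations of the cover with the central generator. -/
def centralRelsOK : Bool :=
  cert2.rels.all fun p => !p.1.contains 14 ||
    (List.range 15).any fun i => p == if i = 14 then ([14, 14], []) else ([14, i], [i, 14])

/-- The fusion of one class representative. -/
noncomputable def fuseOK (x : List ℕ × List ℕ) : Bool :=
  small x.2 && agree (expand x.1 ++ x.2) (x.2 ++ expand [13])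

/-- The part in the simple group of a word of the cover. -/
def base14 (u : List ℕ) : List ℕ := pref 14 u

/-- Every class of involutions of the Sylow subgroup of the cover is listed. -/
def invFinalOK : Bool :=
  (invLev 15).all fun u => base14 u == [] || fuseList.any fun e => e.1 == base14 u

/-- The centre of the Sylow subgroup of the cover. -/
def cenListOK : Bool :=
  (cenTree cert2 15).all fun u => u == [] || u == [13] || u == [14] || u == [13, 14]

/-- The roots of the central generator avoid squares and the sixth term. -/
def rootFinalOK : Bool :=
  (rootLev 15).all fun u =>
    !((pref 6 u).isEmpty) &&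
      (List.range 6).sublists.all fun s =>
        match nfT cert2 6 (s ++ s) with
        | some p => !(p == pref 6 u)
        | none => false

/-- Generators from `k` on commute with all modulo those from `k'` on. -/
def commGens (k k' : ℕ) : Bool :=
  (List.range k').all fun s => Nat.blt s k || (List.range k').all fun t =>
    match nfT cert2 k' [s, t], nfT cert2 k' [t, s] with
    | some p, some q => p == q
    | _, _ => false

/-- The witnesses: two elements, their first and second commutators. -/
def wits : List (List ℕ × List ℕ × List ℕ × List ℕ × List ℕ × List ℕ) :=
  [([0], [1], [4], [3, 5, 7, 9, 10, 11, 13, 14], [8, 9, 11, 13], [13]),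
   ([0, 2], [1], [0], [5, 10, 11, 13], [7, 12], [13, 14])]

end Cfsg.Agent.RuStandard47
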