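import Cfsg.Agent.InvChar.ZStarApps
import Cfsg.Agent.S0215

/-!
A standard subgroup with the two-local properties of the double cover of the Rudvalis group and a
cyclic two-part in its centraliser: the central involution is isolated.
-/

set_option autoImplicit false

namespace Cfsg.Agent.RuStandard47

open Subgroup

/-- The properties used: `e` is the central involution. -/
structure Props (A : Type*) [Group A] (e : A) : Prop where
  e_sq : e * e = 1
  e_ne : e ≠ 1
  e_comm : ∀ x, x * e = e * x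
  center : ∀ x : A, (∀ y, y * x = x * y) → x = 1 ∨ x = e
  inner : ∀ φ : MulAut A, ∃ c, ∀ x, φ x = c * x * c⁻¹
  no_eight : ∀ b : A, b ^ 4 ≠ e
  sylow : ∃ S : Sylow 2 A,
    (∀ z ∈ S, (∀ p ∈ S, p * z = z * p) → z * z = 1) ∧
    (∀ a : A, a * a = 1 → a ≠ 1 → a ≠ e →
      ∃ g, g * a * g⁻¹ ∈ S ∧ ∀ p ∈ S, p * (g * a * g⁻¹) = g * a * g⁻¹ * p) ∧
    ∀ φ : MulAut ↥(S : Subgroup A), ∀ v : ↥(S : Subgroup A), (∀ p, p * v = v * p) →
      ((φ v : ↥(S : Subgroup A)) : A) = e → (v : A) = e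

universe u v

variable {G : Type u} [Group G] [Finite G] {A : Type v} [Group A] {e : A}
variable {ι : A →* G}

/-- The setting. -/
structure Setting (ι : A →* G) (e : A) : Prop where
  props : Props A e
  inj : Function.Injective ι
  std : Cfsg.IsStandardSubgroup ι.range
  cyc : ∀ R : Sylow 2 ↥(centralizer (ι.range : Set G)),
    IsCyclic ↥(R : Subgroup ↥(centralizer (ι.range : Set G)))

namespace Setting

variable (hS : Setting ι e)
include hS

omit [Finite G] in
theorem z_ne : ι e ≠ 1 := fun h => hS.props.e_ne (hS.inj (h.trans (map_one ι).symm))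

omit [Finite G] in
theorem z_sq : ι e * ι e = 1 := by rw [← map_mul, hS.props.e_sq, map_one]

omit [Finite G] in
theorem z_mem : ι e ∈ centralizer (ι.range : Set G) := by
  rintro _ ⟨x, rfl⟩
  rw [← map_mul, ← map_mul, hS.props.e_comm]

omit [Finite G] in
theorem mem_range_inf {a : A} (h : ι a ∈ centralizer (ι.range : Set G)) : a = 1 ∨ a = e := by
  refine hS.props.center a fun y => hS.inj ?_
  rw [map_mul, map_mul]
  exact h _ ⟨y, rfl⟩

theorem involution_eq {v : G} (hv : v ∈ centralizer (ι.range : Set G)) (h2 : v * v = 1) :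
    v = 1 ∨ v = ι e := by
  by_cases h1 : v = 1
  · exact Or.inl h1
  · exact Or.inr (InvChar.involution_eq_of_rank_one (InvChar.prankLE_one_of_cyclic_sylow hS.cyc) hv
      hS.z_mem h2 h1 hS.z_sq hS.z_ne (hv _ ⟨e, rfl⟩).symm)

/-- The centraliser of the central involution is the product. -/
theorem decompose {x : G} (hx : x * ι e = ι e * x) :
    ∃ a : A, ∃ c ∈ centralizer (ι.range : Set G), x = ι a * c := by
  have ho : orderOf (ι e) = 2 := orderOf_eq_prime (by rw [pow_two]; exact hS.z_sq) hS.z_ne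
  have hN : x ∈ normalizer (ι.range : Set G) :=
    InvChar.centralizer_involution_le hS.std ho hS.z_mem fun z hz => by
      rw [Set.mem_singleton_iff.1 hz]; exact hx.symm
  let ε : A ≃* ↥ι.range := MonoidHom.ofInjective hS.inj
  let φ : MulAut A := ε.trans ((ι.range.normalizerMonoidHom ⟨x, hN⟩).trans ε.symm)
  have hφ : ∀ y, ι (φ y) = x * ι y * x⁻¹ := fun y => by
    have h := ε.apply_symm_apply (ι.range.normalizerMonoidHom ⟨x, hN⟩ (ε y))
    exact congrArg Subtype.val h
  obtain ⟨a, ha⟩ := hS.props.inner φ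
  refine ⟨a, (ι a)⁻¹ * x, ?_, by rw [mul_inv_cancel_left]⟩
  rintro _ ⟨y, rfl⟩
  have h := hφ y
  rw [ha, map_mul, map_mul, map_inv] at h
  calc ι y * ((ι a)⁻¹ * x) = (ι a)⁻¹ * (ι a * ι y * (ι a)⁻¹) * x := by group
    _ = (ι a)⁻¹ * (x * ι y * x⁻¹) * x := by rw [h]
    _ = _ := by group

omit [Finite G] hS in
theorem comm_range {a : A} {c : G} (hc : c ∈ centralizer (ι.range : Set G)) : Commute (ι a) c :=
  hc _ ⟨a, rfl⟩

omit [Finite G] in
/-- A product with trivial power. -/
theorem pow_eq_one_parts {a : A} {c : G} (hc : c ∈ centralizer (ι.range : Set G)) {n : ℕ}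
    (h : (ι a * c) ^ n = 1) : c ^ n = 1 ∨ c ^ n = ι e := by
  rw [(comm_range hc).mul_pow] at h
  have e1 : c ^ n = ι (a ^ n)⁻¹ := by
    rw [map_inv, map_pow]; exact (eq_inv_of_mul_eq_one_right h)
  rcases hS.mem_range_inf (a := (a ^ n)⁻¹) (e1 ▸ pow_mem hc n) with h' | h' <;> rw [h'] at e1
  · exact Or.inl (e1.trans (map_one ι))
  · exact Or.inr e1

/-- Without an element of order four, the two-elements of the centraliser of the involution lie in
the subgroup. -/
theorem two_mem_range (hno : ¬ ∃ r ∈ centralizer (ι.range : Set G), r * r = ι e) {y : G}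
    (hy : y * ι e = ι e * y) {n : ℕ} (hn : y ^ 2 ^ n = 1) : ∃ b, y = ι b := by
  have descent : ∀ (m : ℕ), ∀ c ∈ centralizer (ι.range : Set G), c ^ 2 ^ m = 1 →
      c = 1 ∨ c = ι e := by
    intro m
    induction m with
    | zero => intro c _ h; rw [pow_zero, pow_one] at h; exact Or.inl h
    | succ m ih =>
      intro c hc h
      rw [pow_succ', pow_mul] at h
      rcases ih (c ^ 2) (pow_mem hc 2) h with h' | h'
      · exact hS.involution_eq hc (by rw [← pow_two, h'])
      · exact absurd ⟨c, hc, by rw [← pow_two, h']⟩ hno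
  obtain ⟨a, c, hc, rfl⟩ := hS.decompose hy
  have hc' : c ^ 2 ^ (n + 1) = 1 := by
    rw [pow_succ, pow_mul]
    rcases hS.pow_eq_one_parts hc hn with h | h <;> rw [h]
    · exact one_pow 2
    · rw [pow_two]; exact hS.z_sq
  rcases descent _ c hc hc' with rfl | rfl
  · exact ⟨a, mul_one _⟩
  · exact ⟨a * e, (map_mul ι a e).symm⟩

/-- A square root of the involution commuting with a given two-group. -/
theorem exists_root (hr : ∃ r ∈ centralizer (ι.range : Set G), r * r = ι e) {T : Subgroup G}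
    (hT : IsPGroup 2 T) (hTz : ∀ t ∈ T, t * ι e = ι e * t) :
    ∃ r ∈ centralizer (ι.range : Set G), r * r = ι e ∧ ∀ t ∈ T, r * t = t * r := by
  classical
  haveI : Fact (Nat.Prime 2) := ⟨Nat.prime_two⟩
  set C := centralizer (ι.range : Set G) with hC
  let Cp : Subgroup ↥C :=
    { carrier := {c | ∃ a : A, ι a * (c : G) ∈ T}
      one_mem' := ⟨1, by rw [map_one, one_mul, OneMemClass.coe_one]; exact T.one_mem⟩
      mul_mem' := by
        rintro c c' ⟨a, ha⟩ ⟨a', ha'⟩
        refine ⟨a * a', ?_⟩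
        have h := T.mul_mem ha ha'
        rwa [show ι a * (c : G) * (ι a' * c') = ι (a * a') * ((c * c' : ↥C) : G) by
          rw [map_mul, Subgroup.coe_mul, mul_assoc, ← mul_assoc (c : G), ← (comm_range c.2).eq]
          group] at h
      inv_mem' := by
        rintro c ⟨a, ha⟩
        refine ⟨a⁻¹, ?_⟩
        have h := T.inv_mem ha
        rwa [show (ι a * (c : G))⁻¹ = ι a⁻¹ * ((c⁻¹ : ↥C) : G) by
          rw [(comm_range c.2).eq, mul_inv_rev, map_inv, Subgroup.coe_inv]] at h }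
  have hp : IsPGroup 2 Cp := by
    rintro ⟨c, a, ha⟩
    obtain ⟨k, hk⟩ := hT ⟨_, ha⟩
    refine ⟨k + 1, Subtype.ext (Subtype.ext ?_)⟩
    show (c : G) ^ 2 ^ (k + 1) = 1
    rw [pow_succ, pow_mul]
    rcases hS.pow_eq_one_parts c.2 (show (ι a * (c : G)) ^ 2 ^ k = 1 from congrArg Subtype.val hk)
      with h | h <;> rw [h]
    · exact one_pow 2
    · rw [pow_two]; exact hS.z_sq
  obtain ⟨R, hR⟩ := hp.exists_le_sylow
  obtain ⟨r, hrC, hr2⟩ := hr
  have hr4 : (⟨r, hrC⟩ : ↥C) ^ 2 ^ 2 = 1 := by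
    refine Subtype.ext ?_
    show r ^ 2 ^ 2 = 1
    rw [show 2 ^ 2 = 2 + 2 by norm_num, pow_add, pow_two, hr2, hS.z_sq]
  have hrp : IsPGroup 2 (zpowers (⟨r, hrC⟩ : ↥C)) := by
    rintro ⟨y, hy⟩
    obtain ⟨n, rfl⟩ := mem_zpowers_iff.1 hy
    refine ⟨2, Subtype.ext ?_⟩
    show ((⟨r, hrC⟩ : ↥C) ^ n) ^ 2 ^ 2 = 1
    rw [← zpow_natCast, ← zpow_mul, mul_comm, zpow_mul, zpow_natCast, hr4, one_zpow]
  obtain ⟨R', hR'⟩ := hrp.exists_le_sylow
  obtain ⟨g, hg⟩ := MulAction.exists_smul_eq ↥C R' R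
  have hr' : g * ⟨r, hrC⟩ * g⁻¹ ∈ (R : Subgroup ↥C) := by
    have h1 : g * ⟨r, hrC⟩ * g⁻¹ ∈ ((g • R' : Sylow 2 ↥C) : Subgroup ↥C) :=
      ⟨_, hR' (mem_zpowers _), rfl⟩
    rwa [hg] at h1
  set r' : ↥C := g * ⟨r, hrC⟩ * g⁻¹ with hr'def
  refine ⟨r', r'.2, ?_, ?_⟩
  · show ((g : G) * r * (g : G)⁻¹) * ((g : G) * r * (g : G)⁻¹) = _
    rw [show (g : G) * r * (g : G)⁻¹ * ((g : G) * r * (g : G)⁻¹) = g * (r * r) * (g : G)⁻¹ by group,
      hr2, ← (comm_range g.2).eq, mul_inv_cancel_right]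
  · intro t ht
    obtain ⟨a, c, hc, rfl⟩ := hS.decompose (hTz t ht)
    have hcR : (⟨c, hc⟩ : ↥C) ∈ (R : Subgroup ↥C) := hR ⟨a, ht⟩
    haveI := hS.cyc R
    let _ : CommGroup ↥(R : Subgroup ↥C) := IsCyclic.commGroup
    have hcomm : (r' : G) * c = c * r' :=
      congrArg (fun x : ↥(R : Subgroup ↥C) => ((x : ↥C) : G)) (mul_comm (⟨r', hr'⟩ : ↥(R : Subgroup ↥C)) ⟨_, hcR⟩)
    calc (r' : G) * (ι a * c) = (r' : G) * ι a * c := by group
      _ = ι a * r' * c := by rw [← (comm_range r'.2).eq]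
      _ = ι a * (r' * c) := by group
      _ = ι a * (c * r') := by rw [hcomm]
      _ = _ := by group

/-- A conjugate of the involution inside the subgroup commutes with no full Sylow subgroup. -/
theorem central_image {S : Sylow 2 A} (hcen : ∀ a : A, a * a = 1 → a ≠ 1 → a ≠ e →
      ∃ g, g * a * g⁻¹ ∈ S ∧ ∀ p ∈ S, p * (g * a * g⁻¹) = g * a * g⁻¹ * p)
    {g : G} {a : A} (ha : a * a = 1) (hne : ι a ≠ ι e) (hg : g * ι e * g⁻¹ = ι a) :
    ∃ (h : G) (v : ↥(S : Subgroup A)), (∀ p, p * v = v * p) ∧ (v : A) ≠ e ∧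
      h * ι e * h⁻¹ = ι (v : A) := by
  have h1 : a ≠ 1 := fun h => hS.z_ne (by
    rw [h, map_one] at hg
    rw [show ι e = g⁻¹ * (g * ι e * g⁻¹) * g by group, hg]; group)
  obtain ⟨c, hc, hcp⟩ := hcen a ha h1 fun h => hne (by rw [h])
  refine ⟨ι c * g, ⟨_, hc⟩, fun p => Subtype.ext (hcp p.1 p.2), ?_, ?_⟩
  · intro h
    refine hne ?_
    have : a = e := by
      rw [show a = c⁻¹ * (c * a * c⁻¹) * c by group, show c * a * c⁻¹ = e from h, mul_assoc,
        ← hS.props.e_comm c, inv_mul_cancel_left]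
    rw [this]
  · show ι c * g * ι e * (ι c * g)⁻¹ = ι (c * a * c⁻¹)
    rw [show ι c * g * ι e * (ι c * g)⁻¹ = ι c * (g * ι e * g⁻¹) * (ι c)⁻¹ by group, hg, map_mul,
      map_mul, map_inv]

/-- With an element of order four in the centraliser. -/
theorem isolated_of_root (hr : ∃ r ∈ centralizer (ι.range : Set G), r * r = ι e) {g : G}
    (hu : g * ι e * g⁻¹ * ι e = ι e * (g * ι e * g⁻¹)) : g * ι e * g⁻¹ = ι e := by
  obtain ⟨a, c, hc, hac⟩ := hS.decompose hu
  set u := g * ι e * g⁻¹ with hudef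
  by_contra hne
  have hu2 : u * u = 1 := by
    rw [hudef, show g * ι e * g⁻¹ * (g * ι e * g⁻¹) = g * (ι e * ι e) * g⁻¹ by group, hS.z_sq]
    group
  have haa : a * a = 1 ∨ a * a = e := by
    refine hS.mem_range_inf ?_
    have h : ι (a * a) = (c * c)⁻¹ := by
      refine eq_inv_of_mul_eq_one_left ?_
      rw [map_mul]
      calc ι a * ι a * (c * c) = ι a * (ι a * c) * c := by group
        _ = ι a * (c * ι a) * c := by rw [(comm_range hc).eq]
        _ = u * u := by rw [hac]; group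
        _ = 1 := hu2
    rw [h]
    exact inv_mem (mul_mem hc hc)
  -- a square root of a conjugate of the involution commuting with a given two-group
  have lift : ∀ (T : Subgroup A) (g' : G) (w : G), IsPGroup 2 T → g' * ι e * g'⁻¹ = w →
      (∀ t ∈ T, ι t * w = w * ι t) → e ∈ T →
      ∃ b c', c' ∈ centralizer (ι.range : Set G) ∧ ι b * c' * (ι b * c') = w ∧
        ∀ t ∈ T, b * t = t * b := by
    intro T g' w hT hw hTw heT
    set T' : Subgroup G := (T.map ι).map (MulAut.conj g'⁻¹).toMonoidHom with hT'def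
    have hTp : IsPGroup 2 T' := (hT.map ι).map _
    have hTz : ∀ t ∈ T', t * ι e = ι e * t := by
      rintro _ ⟨_, ⟨k, hk, rfl⟩, rfl⟩
      show g'⁻¹ * ι k * g'⁻¹⁻¹ * ι e = ι e * (g'⁻¹ * ι k * g'⁻¹⁻¹)
      calc g'⁻¹ * ι k * g'⁻¹⁻¹ * ι e = g'⁻¹ * (ι k * w) * g' := by rw [← hw]; group
        _ = g'⁻¹ * (w * ι k) * g' := by rw [hTw k hk]
        _ = _ := by rw [← hw]; group
    obtain ⟨r0, hr0, hr02, hr0T⟩ := hS.exists_root hr hTp hTz
    set r := g' * r0 * g'⁻¹ with hrdef
    have hrk : ∀ k ∈ T, r * ι k = ι k * r := by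
      intro k hk
      have h := hr0T _ ⟨_, ⟨k, hk, rfl⟩, rfl⟩
      change r0 * (g'⁻¹ * ι k * g'⁻¹⁻¹) = g'⁻¹ * ι k * g'⁻¹⁻¹ * r0 at h
      calc r * ι k = g' * (r0 * (g'⁻¹ * ι k * g'⁻¹⁻¹)) * g'⁻¹ := by rw [hrdef]; group
        _ = g' * (g'⁻¹ * ι k * g'⁻¹⁻¹ * r0) * g'⁻¹ := by rw [h]
        _ = _ := by rw [hrdef]; group
    obtain ⟨b, c', hc', hbc⟩ := hS.decompose (hrk e heT)
    refine ⟨b, c', hc', by rw [← hbc, hrdef, ← hw, ← hr02]; group, fun p hp => ?_⟩
    refine hS.inj (mul_right_cancel (b := c') ?_)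
    have h := hrk p hp
    rw [hbc] at h
    calc ι (b * p) * c' = ι b * (ι p * c') := by rw [map_mul]; group
      _ = ι b * (c' * ι p) := by rw [(comm_range hc').eq]
      _ = ι b * c' * ι p := by group
      _ = ι p * (ι b * c') := h
      _ = _ := by rw [map_mul]; group
  rcases haa with ha1 | ha2
  · -- an involution of the subgroup
    have hcc : c * c = 1 := by
      have : ι a * c * (ι a * c) = 1 := hac ▸ hu2
      rwa [show ι a * c * (ι a * c) = ι a * (c * ι a) * c by group, ← (comm_range hc).eq,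
        show ι a * (ι a * c) * c = ι a * ι a * (c * c) by group, ← map_mul, ha1, map_one,
        one_mul] at this
    obtain ⟨a', ha', hua⟩ : ∃ a', a' * a' = 1 ∧ u = ι a' := by
      rcases hS.involution_eq hc hcc with h | h
      · exact ⟨a, ha1, by rw [hac, h, mul_one]⟩
      · refine ⟨a * e, ?_, by rw [hac, h, map_mul]⟩
        rw [show a * e * (a * e) = a * (e * a) * e by group, ← hS.props.e_comm a,
          show a * (a * e) * e = a * a * (e * e) by group, ha1, hS.props.e_sq, one_mul]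
    haveI : Finite A := Finite.of_injective ι hS.inj
    haveI : Fact (Nat.Prime 2) := ⟨Nat.prime_two⟩
    obtain ⟨S, hz, hcen, -⟩ := hS.props.sylow
    obtain ⟨h, v, hv, hve, hhv⟩ := hS.central_image hcen ha' (hua ▸ hne) hua
    have heS : e ∈ (S : Subgroup A) := by
      have hzp : IsPGroup 2 (zpowers e) := by
        rintro ⟨y, hy⟩
        obtain ⟨n, rfl⟩ := mem_zpowers_iff.1 hy
        refine ⟨1, Subtype.ext ?_⟩
        show (e ^ n) ^ 2 ^ 1 = 1
        rw [← zpow_natCast, ← zpow_mul, mul_comm, zpow_mul, zpow_natCast, pow_one, pow_two,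
          hS.props.e_sq, one_zpow]
      haveI : (zpowers e).Normal := ⟨fun n hn x => by
        obtain ⟨k, rfl⟩ := mem_zpowers_iff.1 hn
        rw [((show Commute x e from hS.props.e_comm x).zpow_right k).eq, mul_inv_cancel_right]
        exact zpow_mem (mem_zpowers e) k⟩
      have h' := S.is_maximal' (S.isPGroup'.to_sup_of_normal_right hzp) le_sup_left
      rw [← h']
      exact mem_sup_right (mem_zpowers e)
    obtain ⟨b, c', hc', hbc, hbS⟩ := lift (S : Subgroup A) h (ι (v : A)) S.isPGroup' hhv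
      (fun t ht => by rw [← map_mul, ← map_mul]; exact congrArg ι (congrArg Subtype.val (hv ⟨t, ht⟩)))
      heS
    have heq : ι ((v : A)⁻¹ * (b * b)) = (c' * c')⁻¹ := by
      refine eq_inv_of_mul_eq_one_left ?_
      rw [map_mul, map_inv, map_mul,
        show (ι (v : A))⁻¹ * (ι b * ι b) * (c' * c') = (ι (v : A))⁻¹ * (ι b * (ι b * c') * c') by group,
        (comm_range hc').eq, show ι b * (c' * ι b) * c' = ι b * c' * (ι b * c') by group, hbc,
        inv_mul_cancel]
    have hvv : (v : A) * (v : A) = 1 := hz v.1 v.2 fun p hp => congrArg Subtype.val (hv ⟨p, hp⟩)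
    have hb4 : b ^ 2 ^ 2 = 1 := by
      have hbb : b * b = v ∨ b * b = (v : A) * e := by
        rcases hS.mem_range_inf (heq ▸ inv_mem (mul_mem hc' hc')) with h' | h'
        · exact Or.inl (inv_mul_eq_one.1 h').symm
        · exact Or.inr (by rw [← h']; group)
      rw [show 2 ^ 2 = 2 + 2 by norm_num, pow_add, pow_two]
      rcases hbb with h' | h' <;> rw [h']
      · exact hvv
      · rw [show (v : A) * e * ((v : A) * e) = (v : A) * (e * v) * e by group, ← hS.props.e_comm v.1,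
          show (v : A) * ((v : A) * e) * e = (v : A) * v * (e * e) by group, hvv, hS.props.e_sq, one_mul]
    have hbp : IsPGroup 2 (zpowers b) := by
      rintro ⟨y, hy⟩
      obtain ⟨n, rfl⟩ := mem_zpowers_iff.1 hy
      refine ⟨2, Subtype.ext ?_⟩
      show (b ^ n) ^ 2 ^ 2 = 1
      rw [← zpow_natCast, ← zpow_mul, mul_comm, zpow_mul, zpow_natCast, hb4, one_zpow]
    have hle : (S : Subgroup A) ≤ normalizer (zpowers b : Set A) := by
      intro p hp
      rw [mem_normalizer_iff]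
      intro n
      constructor <;> intro hn
      · obtain ⟨k, rfl⟩ := mem_zpowers_iff.1 hn
        rw [((show Commute p b from (hbS p hp).symm).zpow_right k).eq, mul_inv_cancel_right]
        exact zpow_mem (mem_zpowers b) k
      · obtain ⟨k, hk⟩ := mem_zpowers_iff.1 hn
        rw [show n = p⁻¹ * b ^ k * p by rw [hk]; group, mul_assoc,
          ← ((show Commute p b from (hbS p hp).symm).zpow_right k).eq, inv_mul_cancel_left]
        exact zpow_mem (mem_zpowers b) k
    have hbS' : b ∈ (S : Subgroup A) := by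
      rw [← S.is_maximal' (S.isPGroup'.to_sup_of_normal_right' hbp hle) le_sup_left]
      exact mem_sup_right (mem_zpowers b)
    have hb2 := hz b hbS' fun p hp => (hbS p hp).symm
    rw [hb2, mul_one] at heq
    rcases hS.mem_range_inf (heq ▸ inv_mem (mul_mem hc' hc')) with h' | h'
    · refine hS.z_ne ?_
      rw [inv_eq_one] at h'
      rw [h', map_one] at hhv
      rw [show ι e = h⁻¹ * (h * ι e * h⁻¹) * h by group, hhv]; group
    · refine hve ?_
      rw [← inv_inv (v : A), h', inv_eq_of_mul_eq_one_right hS.props.e_sq]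
  · -- an element squaring to the involution
    have hzp : IsPGroup 2 (zpowers e) := by
      rintro ⟨y, hy⟩
      obtain ⟨n, rfl⟩ := mem_zpowers_iff.1 hy
      refine ⟨1, Subtype.ext ?_⟩
      show (e ^ n) ^ 2 ^ 1 = 1
      rw [← zpow_natCast, ← zpow_mul, mul_comm, zpow_mul, zpow_natCast, pow_one, pow_two,
        hS.props.e_sq, one_zpow]
    obtain ⟨b, c', hc', hbc, -⟩ := lift (zpowers e) g u hzp rfl (fun t ht => by
      obtain ⟨n, rfl⟩ := mem_zpowers_iff.1 ht
      rw [hac, ← mul_assoc, ← map_mul,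
        ← ((show Commute a e from hS.props.e_comm a).zpow_right n).eq, map_mul, mul_assoc,
        (comm_range hc).eq, ← mul_assoc]) (mem_zpowers e)
    have heq : ι (a⁻¹ * (b * b)) = c * (c' * c')⁻¹ := by
      have h : ι b * ι b * (c' * c') = ι a * c := by
        rw [← hac, ← hbc]
        calc ι b * ι b * (c' * c') = ι b * (ι b * c') * c' := by group
          _ = ι b * (c' * ι b) * c' := by rw [(comm_range hc').eq]
          _ = _ := by group
      rw [map_mul, map_inv, map_mul, show ι b * ι b = ι a * c * (c' * c')⁻¹ by rw [← h]; group]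
      group
    refine hS.props.no_eight b ?_
    rw [show 4 = 2 + 2 by norm_num, pow_add, pow_two]
    rcases hS.mem_range_inf (heq ▸ mul_mem hc (inv_mem (mul_mem hc' hc'))) with h' | h'
    · rw [← (inv_mul_eq_one.1 h'), ha2]
    · rw [show b * b = a * e by rw [← h']; group, show a * e * (a * e) = a * (e * a) * e by group,
        ← hS.props.e_comm a, show a * (a * e) * e = a * a * (e * e) by group, ha2, hS.props.e_sq,
        mul_one]

/-- Without an element of order four. -/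
theorem isolated_of_no_root (hno : ¬ ∃ r ∈ centralizer (ι.range : Set G), r * r = ι e) {g : G}
    (hu : g * ι e * g⁻¹ * ι e = ι e * (g * ι e * g⁻¹)) : g * ι e * g⁻¹ = ι e := by
  by_contra hne
  haveI : Finite A := Finite.of_injective ι hS.inj
  haveI : Fact (Nat.Prime 2) := ⟨Nat.prime_two⟩
  obtain ⟨w, hw⟩ := hS.two_mem_range hno hu (n := 1) (by
    rw [pow_one, pow_two, show g * ι e * g⁻¹ * (g * ι e * g⁻¹) = g * (ι e * ι e) * g⁻¹ by group,
      hS.z_sq]
    group)
  have hw2 : w * w = 1 := hS.inj (by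
    rw [map_mul, map_one, ← hw, show g * ι e * g⁻¹ * (g * ι e * g⁻¹) = g * (ι e * ι e) * g⁻¹ by group,
      hS.z_sq]
    group)
  obtain ⟨S, -, hcen, hsep⟩ := hS.props.sylow
  obtain ⟨h, v, hv, hve, hhv⟩ := hS.central_image hcen hw2 (hw ▸ hne) hw
  set S' : Subgroup G := ((S : Subgroup A).map ι).map (MulAut.conj h⁻¹).toMonoidHom with hS'
  have hS'p : IsPGroup 2 S' := (S.isPGroup'.map ι).map _
  have hS'z : ∀ x ∈ S', x * ι e = ι e * x := by
    rintro _ ⟨_, ⟨p, hp, rfl⟩, rfl⟩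
    show h⁻¹ * ι p * h⁻¹⁻¹ * ι e = ι e * (h⁻¹ * ι p * h⁻¹⁻¹)
    have h2 : ι p * ι (v : A) = ι (v : A) * ι p := by
      rw [← map_mul, ← map_mul]; exact congrArg ι (congrArg Subtype.val (hv ⟨p, hp⟩))
    rw [← hhv] at h2
    calc h⁻¹ * ι p * h⁻¹⁻¹ * ι e = h⁻¹ * (ι p * (h * ι e * h⁻¹)) * h := by group
      _ = h⁻¹ * (h * ι e * h⁻¹ * ι p) * h := by rw [h2]
      _ = _ := by group
  have hS'r : S' ≤ ι.range := fun x hx => by
    obtain ⟨k, hk⟩ := hS'p ⟨x, hx⟩
    obtain ⟨b, hb⟩ := hS.two_mem_range hno (hS'z x hx) (show x ^ 2 ^ k = 1 from congrArg Subtype.val hk)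
    exact ⟨b, hb.symm⟩
  set S2 : Subgroup A := S'.comap ι with hS2
  have hcard : Nat.card S2 = Nat.card S := by
    have e1 : S2.map ι = S' := by
      rw [hS2, map_comap_eq, inf_eq_right.2 hS'r]
    rw [← card_map_of_injective (f := ι) hS.inj, e1, hS',
      card_map_of_injective (MulAut.conj h⁻¹).injective, card_map_of_injective hS.inj]
  let S2' : Sylow 2 A := Sylow.ofCard S2 (by rw [hcard]; exact S.card_eq_multiplicity)
  obtain ⟨a, ha⟩ := MulAction.exists_smul_eq A S2' S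
  set k := ι a * h⁻¹ with hk
  have hkS : ∀ p ∈ S, ∃ q ∈ S, k * ι p * k⁻¹ = ι q := by
    intro p hp
    have h1 : h⁻¹ * ι p * h⁻¹⁻¹ ∈ S' := ⟨_, ⟨p, hp, rfl⟩, rfl⟩
    obtain ⟨b, hb⟩ := hS'r h1
    refine ⟨a * b * a⁻¹, ?_, ?_⟩
    · have h2 : a * b * a⁻¹ ∈ ((a • S2' : Sylow 2 A) : Subgroup A) :=
        ⟨b, show ι b ∈ S' from hb ▸ h1, rfl⟩
      rwa [ha] at h2
    · rw [map_mul, map_mul, map_inv, hb, hk]; group
  have hkv : k * ι (v : A) * k⁻¹ = ι e := by
    rw [hk, ← hhv, show ι a * h⁻¹ * (h * ι e * h⁻¹) * (ι a * h⁻¹)⁻¹ = ι a * ι e * (ι a)⁻¹ by group,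
      ← map_mul, hS.props.e_comm a, map_mul]
    group
  choose F hFm hF using fun p : ↥(S : Subgroup A) => hkS p.1 p.2
  let φ : ↥(S : Subgroup A) →* ↥(S : Subgroup A) :=
    MonoidHom.mk' (fun p => ⟨F p, hFm p⟩) fun p q => Subtype.ext (hS.inj (by
      show ι (F (p * q)) = ι (F p * F q)
      rw [map_mul, ← hF, ← hF, ← hF, Subgroup.coe_mul, map_mul]
      group))
  have hφ : Function.Injective φ := fun p q hpq => by
    have h' : ι (F p) = ι (F q) := congrArg (fun x : ↥(S : Subgroup A) => ι (x : A)) hpq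
    rw [← hF, ← hF] at h'
    exact Subtype.ext (hS.inj (mul_left_cancel (mul_right_cancel h')))
  let ψ : MulAut ↥(S : Subgroup A) :=
    MulEquiv.ofBijective φ ⟨hφ, Finite.injective_iff_surjective.1 hφ⟩
  refine hve (hsep ψ v hv (hS.inj ?_))
  show ι (F v) = ι e
  rw [← hF, hkv]

/-- The subgroup is normal. -/
theorem normal (hO : Cfsg.oddCore G = ⊥) : ι.range.Normal := by
  have ho : orderOf (ι e) = 2 := orderOf_eq_prime (by rw [pow_two]; exact hS.z_sq) hS.z_ne
  have hiso : ∀ g : G, Commute (ι e) (g * ι e * g⁻¹) → g * ι e * g⁻¹ = ι e := fun g hg => by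
    by_cases hr : ∃ r ∈ centralizer (ι.range : Set G), r * r = ι e
    · exact hS.isolated_of_root hr hg.eq.symm
    · exact hS.isolated_of_no_root hr hg.eq.symm
  obtain ⟨P, hzP, hP⟩ := InvChar.exists_sylow_isolated ho hiso
  obtain ⟨N, hN, hodd, hcomm⟩ := S0215.result P (ι e) ho hzP hP
  have hNbot : N = ⊥ := by
    rw [eq_bot_iff, ← hO]; exact InvChar.le_oddCore hN hodd
  refine ⟨fun n hn x => ?_⟩
  have h := hcomm x
  rw [hNbot, mem_bot] at h
  have hxz : x * ι e = ι e * x := by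
    rw [mul_inv_eq_one, mul_inv_eq_iff_eq_mul] at h
    exact h.symm
  have hxN : x ∈ normalizer (ι.range : Set G) :=
    InvChar.centralizer_involution_le hS.std ho hS.z_mem fun z hz => by
      rw [Set.mem_singleton_iff.1 hz]; exact hxz.symm
  exact (mem_normalizer_iff.1 hxN n).1 hn

end Setting

end Cfsg.Agent.RuStandard47
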