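import Cfsg.Agent.RuStandard47.Checks
import Cfsg.Agent.RuStandard47.ChecksTails
import Cfsg.Agent.RuMult82.Bound

/-!
The Sylow 2-subgroup of a double cover of the Rudvalis group is determined.
-/

set_option autoImplicit false
set_option maxRecDepth 100000

namespace Cfsg.Agent.RuStandard47

open Cfsg.Agent.CosetEnum Cfsg.Agent.SylowTail Cfsg.Agent.SporB.Ru
open Cfsg.Agent.RuMult82 (cert expand small aFun V small_expand small_append small_getD)
open scoped commutatorElement

/-- A double cover of the Rudvalis group with the central involution `e`. -/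
structure Cover (A : Type) [Group A] (σ : A →* RuMult82.H) (e : A) : Prop where
  surj : Function.Surjective σ
  e_ne : e ≠ 1
  e_sq : e * e = 1
  e_comm : ∀ x, x * e = e * x
  e_map : σ e = 1
  ker : ∀ k, σ k = 1 → k = 1 ∨ k = e
  e_comm' : e ∈ commutator A

variable {A : Type} [Group A] {σ : A →* RuMult82.H} {e : A}

theorem cw_small (j : ℕ) : small (cw j) = true := small_getD words_small j

/-- Equal words in the simple group from a check. -/
theorem conj_of_agree {u v : List ℕ} {j : ℕ}
    (h : agree (expand u ++ cw j) (cw j ++ expand v) = true) :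
    evalWord aFun u * V (cw j) = V (cw j) * evalWord aFun v := by
  rw [RuMult82.eval_expand, RuMult82.eval_expand]
  have := RuMult82.V_eq (small_append (small_expand u) (cw_small j))
    (small_append (cw_small j) (small_expand v)) h
  rwa [show V (expand u ++ cw j) = V (expand u) * V (cw j) from evalWord_append _ _ _,
    show V (cw j ++ expand v) = V (cw j) * V (expand v) from evalWord_append _ _ _] at this

theorem eval_map (f : A →* RuMult82.H) (x : ℕ → A) {a : ℕ → RuMult82.H} :
    ∀ {w : List ℕ}, (∀ q ∈ w, f (x q) = a q) → f (evalWord x w) = evalWord a w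
  | [], _ => map_one f
  | l :: w, h => by
    show f (x l * evalWord x w) = a l * evalWord a w
    rw [map_mul, h l (by simp), eval_map f x fun q hq => h q (List.mem_cons_of_mem _ hq)]

theorem dot_even {K : Type} [CommGroup K] (h2 : ∀ z : K, z ^ 2 = 1) :
    ∀ (v : List ℕ) (Z : List K), evenv v = true → SylowTail.dot v Z = 1
  | [], Z, _ => by simp [SylowTail.dot]
  | x :: v, [], _ => by simp [SylowTail.dot]
  | x :: v, z :: Z, h => by
    simp only [evenv, List.all_cons, Bool.and_eq_true, beq_iff_eq] at h
    simp only [SylowTail.dot]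
    rw [← Nat.mod_add_div x 2, h.1, zero_add, pow_mul, h2, one_pow, one_mul]
    exact dot_even h2 v Z h.2

set_option maxHeartbeats 1000000 in
/-- The lifts of the generators can be chosen to satisfy the presentation of the cover. -/
theorem exists_presentation [Finite A] (hc : Cover A σ e) :
    ∃ y : ℕ → A, y 14 = e ∧ (∀ i < 14, σ (y i) = aFun i) ∧
      ∀ (k : ℕ) (r : List ℕ × List ℕ), cert2.rels[k]? = some r →
        evalWord y r.1 = evalWord y r.2 := by
  classical
  choose x hx using fun i => hc.surj (aFun i)
  choose t ht using fun j => hc.surj (V (cw j))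
  have hcen : ∀ k ∈ σ.ker, ∀ a : A, Commute k a := fun k hk a => by
    rcases hc.ker k hk with rfl | rfl
    · exact Commute.one_left a
    · exact (hc.e_comm a).symm
  letI : CommGroup σ.ker :=
    { (inferInstance : Group σ.ker) with
      mul_comm := fun u v => Subtype.ext (hcen u u.2 v).eq }
  have h2 : ∀ z : σ.ker, z ^ 2 = 1 := fun z => Subtype.ext (by
    show (z : A) ^ 2 = 1
    rcases hc.ker z z.2 with h | h <;> rw [h, pow_two]
    · exact one_mul 1
    · exact hc.e_sq)
  have h4 : ∀ z : σ.ker, z ^ 4 = 1 := fun z => by rw [show 4 = 2 * 2 by norm_num, pow_mul, h2 z]; exact one_pow 2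
  have inv1 : ∀ z : σ.ker, z⁻¹ = z := fun z => inv_eq_of_mul_eq_one_right (by rw [← pow_two, h2])
  set ι : σ.ker →* A := σ.ker.subtype with hι
  have hιc : ∀ (k : σ.ker) (a : A), Commute (ι k) a := fun k a => hcen k k.2 a
  have hev : ∀ w, σ (evalWord x w) = evalWord aFun w := fun w => eval_map σ x fun q _ => hx q
  let z : ℕ → σ.ker := fun k =>
    if h : (evalWord x (cert.rels.getD k ([], [])).2)⁻¹ * evalWord x (cert.rels.getD k ([], [])).1 ∈ σ.ker
      then ⟨_, h⟩ else 1
  let Z : List σ.ker := (List.range cert.rels.length).map z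
  have hzspec : ∀ (k : ℕ) (r : List ℕ × List ℕ), cert.rels[k]? = some r →
      evalWord x r.1 = evalWord x r.2 * ι (Z.getD k 1) := by
    intro k r hr
    have hk : k < cert.rels.length := (List.getElem?_eq_some_iff.mp hr).1
    have hg : cert.rels.getD k ([], []) = r := by rw [List.getD_eq_getElem?_getD, hr]; rfl
    have hmem : (evalWord x r.2)⁻¹ * evalWord x r.1 ∈ σ.ker := by
      rw [MonoidHom.mem_ker, map_mul, map_inv, hev, hev, inv_mul_eq_one,
        RuMult82.holds.rels k r hr]
    rw [List.getD_eq_getElem Z _ (by simpa [Z] using hk)]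
    simp only [Z, List.getElem_map, List.getElem_range, z, hg, dif_pos hmem, hι,
      Subgroup.coe_subtype]
    rw [mul_inv_cancel_left]
  have hsound : ∀ side w r u, col side w = some (r, u) →
      evalWord x w = evalWord x r * ι (SylowTail.dot u Z) := by
    intro side w r u h
    have h' := collect_sound ι hιc x cert.rels cert.rix side Z h4 hzspec cert.fuel w [] r u h
    simpa [SylowTail.dot] using h'
  have hsub : ∀ a b : List ℕ, SylowTail.dot (subv a b) Z = SylowTail.dot a Z * SylowTail.dot b Z := by
    intro a b
    rw [subv, dot_addv h4, dot_smul h4, show 3 = 2 + 1 from rfl, pow_succ, h2, one_mul]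
  -- moving a word by a conjugating element
  have hconj : ∀ {u v : List ℕ} {j : ℕ}, agree (expand u ++ cw j) (cw j ++ expand v) = true →
      ∃ k : σ.ker, evalWord x u = t j * evalWord x v * (t j)⁻¹ * ι k := by
    intro u v j h
    refine ⟨⟨(t j * evalWord x v * (t j)⁻¹)⁻¹ * evalWord x u, ?_⟩, ?_⟩
    · rw [MonoidHom.mem_ker]
      simp only [map_mul, map_inv, hev, ht]
      rw [inv_mul_eq_one, mul_inv_eq_iff_eq_mul, conj_of_agree h]
    · exact (mul_inv_cancel_left _ _).symm
  have heq : ∀ q ∈ teqs, SylowTail.dot (eqv q) Z = 1 := by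
    intro q hq
    have hf := List.all_eq_true.mp fus_ok q hq
    rcases q with w | ⟨j, u, v⟩ | ⟨j, s1, s2, d1, d2⟩
    · simp only [eqv]
      split
      · rename_i r a r' b ha hb
        split
        · rename_i hrr
          subst hrr
          have := (hsound _ _ _ _ ha).symm.trans (hsound _ _ _ _ hb)
          rw [hsub, Subtype.ext (mul_left_cancel this), ← pow_two, h2]
        · rfl
      · rfl
    · simp only [eqv]
      split
      · rename_i r a r' b ha hb
        split
        · rename_i hrr
          obtain ⟨rfl, rfl⟩ := hrr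
          obtain ⟨k, hk⟩ := hconj hf
          have ea : evalWord x u * evalWord x u = ι (SylowTail.dot a Z) := by
            rw [← evalWord_append, hsound _ _ _ _ ha]; exact one_mul _
          have eb : evalWord x v * evalWord x v = ι (SylowTail.dot b Z) := by
            rw [← evalWord_append, hsound _ _ _ _ hb]; exact one_mul _
          have e1 : ι (SylowTail.dot a Z) = ι (SylowTail.dot b Z) := by
            have hk2 : ι k * ι k = 1 := by rw [← map_mul, ← pow_two, h2, map_one]
            calc ι (SylowTail.dot a Z) = evalWord x u * evalWord x u := ea.symm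
              _ = (t j * evalWord x v * (t j)⁻¹) *
                  (ι k * (t j * evalWord x v * (t j)⁻¹)) * ι k := by rw [hk]; group
              _ = (t j * evalWord x v * (t j)⁻¹) *
                  ((t j * evalWord x v * (t j)⁻¹) * ι k) * ι k := by rw [(hιc k _).eq]
              _ = t j * (evalWord x v * evalWord x v) * (t j)⁻¹ * (ι k * ι k) := by group
              _ = _ := by rw [eb, hk2, mul_one, ← (hιc _ (t j)).eq, mul_inv_cancel_right]
          rw [hsub, Subtype.ext e1, ← pow_two, h2]
        · rfl
      · rfl
    · simp only [eqv]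
      simp only [fusOK, Bool.and_eq_true] at hf
      split
      · rename_i r a1 r' a2 f b1 f' b2 h1 h2' h3 h5
        split
        · rename_i hrr
          obtain ⟨rfl, rfl⟩ := hrr
          obtain ⟨k1, hk1⟩ := hconj hf.1
          obtain ⟨k2, hk2⟩ := hconj hf.2
          set T := t j with hT
          have move : ∀ {A1 A2 B1 B2 : A} {k k' : σ.ker}, A1 = T * B1 * T⁻¹ * ι k →
              A2 = T * B2 * T⁻¹ * ι k' → A1 * A2 = T * (B1 * B2) * T⁻¹ * ι (k * k') := by
            intro A1 A2 B1 B2 k k' e1 e2
            rw [e1, e2, map_mul]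
            calc T * B1 * T⁻¹ * ι k * (T * B2 * T⁻¹ * ι k')
                = T * B1 * T⁻¹ * (ι k * (T * B2 * T⁻¹)) * ι k' := by group
              _ = T * B1 * T⁻¹ * ((T * B2 * T⁻¹) * ι k) * ι k' := by rw [(hιc k _).eq]
              _ = _ := by group
          have m1 := move hk1 hk2
          have m2 := move hk2 hk1
          rw [← evalWord_append, ← evalWord_append, hsound _ _ _ _ h1, hsound _ _ _ _ h3] at m1
          rw [← evalWord_append, ← evalWord_append, hsound _ _ _ _ h2', hsound _ _ _ _ h5] at m2
          have strip : ∀ {R F : A} {p q s : σ.ker}, R * ι p = T * (F * ι q) * T⁻¹ * ι s →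
              (T * F * T⁻¹)⁻¹ * R = ι (q * s * p⁻¹) := by
            intro R F p q s h
            have h' : R * ι p = T * F * T⁻¹ * (ι q * ι s) := by
              rw [h, show T * (F * ι q) * T⁻¹ = T * F * (ι q * T⁻¹) by group, (hιc q T⁻¹).eq]
              group
            calc (T * F * T⁻¹)⁻¹ * R = (T * F * T⁻¹)⁻¹ * (R * ι p) * (ι p)⁻¹ := by group
              _ = _ := by rw [h', map_mul, map_mul, map_inv]; group
          have hh := σ.ker.subtype_injective ((strip m1).symm.trans (strip m2))
          rw [mul_comm k2 k1, inv1, inv1] at hh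
          rw [hsub, hsub, hsub]
          have hh' : SylowTail.dot b1 Z * SylowTail.dot a1 Z = SylowTail.dot b2 Z * SylowTail.dot a2 Z :=
            mul_right_cancel (b := k1 * k2) (by rw [mul_right_comm, hh, mul_right_comm])
          calc SylowTail.dot a1 Z * SylowTail.dot a2 Z * (SylowTail.dot b1 Z * SylowTail.dot b2 Z)
              = (SylowTail.dot b1 Z * SylowTail.dot a1 Z) *
                (SylowTail.dot b2 Z * SylowTail.dot a2 Z) := by
                  rw [mul_mul_mul_comm, mul_comm (SylowTail.dot a1 Z), mul_comm (SylowTail.dot a2 Z)]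
            _ = 1 := by rw [hh', ← pow_two, h2]
        · rfl
      · rfl
  have hcomb : ∀ cs, SylowTail.dot (combT (teqs.map eqv) cs) Z = 1 := by
    intro cs
    induction cs with
    | nil => simp [combT, SylowTail.dot]
    | cons p cs ih =>
      show SylowTail.dot (addv _ (combT (teqs.map eqv) cs)) Z = 1
      rw [dot_addv h4, ih, mul_one, List.getD_eq_getElem?_getD, List.getElem?_map]
      cases hq : teqs[p]? with
      | none => simp [SylowTail.dot]
      | some q => exact heq q (List.mem_of_getElem? hq)
  -- the new lifts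
  let s : ℕ → σ.ker := fun q => SylowTail.dot (shifts.getD q []) Z
  let T0 : σ.ker := SylowTail.dot (shifts.getD 14 []) Z
  let y : ℕ → A := fun q => if q = 14 then e else x q * ι (s q)
  have hy : ∀ w : List ℕ, (∀ q ∈ w, q < 14) →
      evalWord y w = evalWord x w * ι (SylowTail.dot (sv w) Z) := by
    intro w
    induction w with
    | nil => intro _; simp [sv, evalWord, SylowTail.dot]
    | cons q w ih =>
      intro hw
      have hq := hw q (by simp)
      show y q * evalWord y w = x q * evalWord x w * ι (SylowTail.dot (addv _ (sv w)) Z)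
      rw [ih fun p hp => hw p (List.mem_cons_of_mem _ hp), dot_addv h4, map_mul]
      simp only [y, if_neg (show q ≠ 14 by omega), s]
      simp only [mul_assoc]
      rw [← mul_assoc (ι _) (evalWord x w), (hιc _ (evalWord x w)).eq, mul_assoc]
  have hrelbase : ∀ (r : ℕ) (p : List ℕ × List ℕ), cert.rels[r]? = some p →
      evalWord y p.1 = evalWord y p.2 * ι (if tails.getD r false then T0 else 1) := by
    intro r p hp
    have hr : r < cert.rels.length := (List.getElem?_eq_some_iff.mp hp).1
    have hg : cert.rels.getD r ([], []) = p := by rw [List.getD_eq_getElem?_getD, hp]; rfl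
    have h := List.all_eq_true.mp tails_ok r (List.mem_range.mpr hr)
    simp only [tailOK, hg, Bool.and_eq_true, List.all_eq_true, Nat.blt_eq] at h
    obtain ⟨hlt, hev'⟩ := h
    have hd := dot_even h2 _ Z hev'
    rw [dot_addv h4, dot_addv h4, dot_addv h4, dot_addv h4, hcomb, mul_one, dot_bump h4] at hd
    rw [show SylowTail.dot [] Z = 1 by simp [SylowTail.dot], one_mul] at hd
    rw [hy p.1 fun q hq => hlt q (List.mem_append_left _ hq),
      hy p.2 fun q hq => hlt q (List.mem_append_right _ hq), hzspec r p hp, mul_assoc, mul_assoc,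
      ← map_mul, ← map_mul]
    congr 2
    have hT : SylowTail.dot (if tails.getD r false = true then shifts.getD 14 [] else []) Z =
        if tails.getD r false = true then T0 else 1 := by
      split <;> simp [T0, SylowTail.dot]
    rw [hT] at hd
    rw [← inv1 (SylowTail.dot (sv p.2) Z * _)]
    refine eq_inv_of_mul_eq_one_left ?_
    rw [mul_assoc]
    exact hd
  -- the tail is not trivial
  have hT0 : T0 = ⟨e, hc.e_map⟩ := by
    refine Subtype.ext ((hc.ker T0 T0.2).resolve_left fun h0 => ?_)
    have h1 : T0 = 1 := Subtype.ext h0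
    have hy' : SylowTail.Holds { cert with pairs := [] } y (fun _ => 1) :=
      { rels := fun k r hr => by
          rw [hrelbase k r hr, h1, ite_self, map_one, mul_one]
        fused := fun k p hp => by simp at hp
        indep := fun u hu h => RuMult82.holds.indep u hu (by
          rw [← eval_map σ y (a := aFun) (w := u) fun q hq => by
            have hq14 : q < 14 := (hu.2 q hq).2
            simp [y, show q ≠ 14 by omega, map_mul, hx, show σ (ι (s q)) = 1 from (s q).2], h,
            map_one]) }
    set S0 := SylowTail.sub cert aFun with hS0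
    have hidx : ¬ 2 ∣ S0.index := RuMult82.sylow_index
    haveI : (S0.comap σ).FiniteIndex := inferInstance
    have hm := Cfsg.Agent.Schur.pow_index_mem_commutator (S0.comap σ)
      (Subgroup.mem_center_iff.mpr hc.e_comm) hc.e_comm'
    rw [Subgroup.map_subtype_commutator, Subgroup.index_comap_of_surjective _ hc.surj] at hm
    set X : Subgroup A := SylowTail.sub { cert with pairs := [] } y with hX
    have hlift : ∀ a ∈ S0.comap σ, ∃ b ∈ X, ∃ k ∈ σ.ker, a = b * k := by
      intro a ha
      have hle : S0 ≤ X.map σ := by
        refine (Subgroup.closure_le _).mpr ?_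
        rintro _ ⟨j, hj, rfl⟩
        refine ⟨y j, Subgroup.subset_closure ⟨j, hj, rfl⟩, ?_⟩
        have : j < 14 := hj
        simp [y, show j ≠ 14 by omega, map_mul, hx, show σ (ι (s j)) = 1 from (s j).2]
      obtain ⟨b, hb, hb'⟩ := hle ha
      exact ⟨b, hb, b⁻¹ * a, by rw [MonoidHom.mem_ker, map_mul, map_inv, hb', inv_mul_cancel],
        by group⟩
    have hle : ⁅S0.comap σ, S0.comap σ⁆ ≤ X := by
      rw [Subgroup.commutator_le]
      intro a ha b hb
      obtain ⟨a', ha', i, hi, rfl⟩ := hlift a ha
      obtain ⟨b', hb', j, hj, rfl⟩ := hlift b hb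
      rw [Cfsg.Agent.Schur.commutatorElement_mul_central
        (Subgroup.mem_center_iff.mpr fun g => ((hcen i hi g).symm).eq)
        (Subgroup.mem_center_iff.mpr fun g => ((hcen j hj g).symm).eq)]
      rw [commutatorElement_def]
      exact mul_mem (mul_mem (mul_mem ha' hb') (inv_mem ha')) (inv_mem hb')
    have hshape' : ({ cert with pairs := [] } : SylowTail.Data).shapeOK = true := RuMult82.shape_ok
    obtain ⟨m, hm2⟩ := Nat.not_even_iff_odd.mp fun h => hidx (even_iff_two_dvd.mp h)
    rw [hm2, pow_succ, pow_mul, pow_two, hc.e_sq, one_pow, one_mul] at hm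
    have heX : e ∈ (SylowTail.vals { cert with pairs := [] } y 0) := by
      rw [SylowTail.vals_eq_high hshape' hy' 0 (Nat.zero_le _)]
      exact closure_le_high (X := y) (C := (⊥ : Subgroup A)) hshape'
        (fun k r hr => by rw [Subgroup.mem_bot, inv_mul_eq_one, hy'.rels k r hr]) e
        (Subgroup.closure_mono Set.subset_union_left (hle hm))
    obtain ⟨u, hu, hue⟩ := heX
    have hu0 : u = [] := RuMult82.holds.indep u hu (by
      rw [← eval_map σ y (a := aFun) (w := u) fun q hq => by
        have hq14 : q < 14 := (hu.2 q hq).2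
        simp [y, show q ≠ 14 by omega, map_mul, hx, show σ (ι (s q)) = 1 from (s q).2], hue,
        hc.e_map])
    subst hu0
    exact hc.e_ne hue.symm
  refine ⟨y, if_pos rfl, fun i hi => ?_, fun k r hr => ?_⟩
  · simp [y, show i ≠ 14 by omega, map_mul, hx, show σ (ι (s i)) = 1 from (s i).2]
  have hk : k < cert2.rels.length := (List.getElem?_eq_some_iff.mp hr).1
  have hg : cert2.rels.getD k ([], []) = r := by rw [List.getD_eq_getElem?_getD, hr]; rfl
  obtain ⟨h1, h2'⟩ := rels_ok
  have h := List.all_eq_true.mp h1 k (List.mem_range.mpr hk)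
  simp only [hg, Bool.or_eq_true] at h
  rcases h with h | h
  · have hm := List.all_eq_true.mp h2' r (List.mem_of_getElem? hr)
    simp only [h, Bool.not_true, Bool.false_or, List.any_eq_true, List.mem_range, beq_iff_eq] at hm
    obtain ⟨i, hi, rfl⟩ := hm
    have hy14 : y 14 = e := if_pos rfl
    split
    · simp [evalWord, hy14, hc.e_sq]
    · simp [evalWord, hy14, hc.e_comm]
  · simp only [List.any_eq_true, List.mem_range, Bool.and_eq_true, beq_iff_eq] at h
    obtain ⟨r', hr', e1, e2⟩ := h
    rw [e1, e2, hrelbase r' _ (by rw [List.getD_eq_getElem _ _ hr', List.getElem?_eq_getElem hr']),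
      evalWord_append]
    congr 1
    split
    · rw [hT0]; simp [evalWord, y, hι]
    · simp [evalWord]

end Cfsg.Agent.RuStandard47
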