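import Cfsg.Agent.RuStandard47.Fusion
import Cfsg.Agent.RuStandard47.Conj
import Cfsg.Agent.RuStandard47.Tails
import Cfsg.Agent.RuStandard47.ChecksInv
import Cfsg.Agent.RuStandard47.ChecksRoot
import Cfsg.Agent.RuLattice.Iso
import Cfsg.Agent.SporB.Ru.Out.Rigid

/-!
The double cover of the Rudvalis group has the properties used for a standard subgroup.
-/

set_option autoImplicit false
set_option maxRecDepth 100000

namespace Cfsg.Agent.RuStandard47

open Cfsg.Agent.CosetEnum Cfsg.Agent.SylowTail Cfsg.Agent.SporB.Ru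
open Cfsg.Agent.RuMult82 (cert expand small aFun V small_expand small_append small_getD)

theorem cen13_ok : ((List.range 15).all fun i =>
    match nform cert2 [i, 13], nform cert2 [13, i] with
    | some p, some q => p == q
    | _, _ => false) = true := by decide +kernel

theorem sq_centre_ok : ([[], [13], [14], [13, 14]].all fun u => nform cert2 (u ++ u) == some []) = true := by
  decide +kernel

variable {A : Type} [Group A] {σ : A →* RuMult82.H} {e : A}

theorem mem_range_sublists {s : List ℕ} {n : ℕ} (hp : s.Pairwise (· < ·)) (hb : ∀ b ∈ s, b < n) :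
    s ∈ (List.range n).sublists := by
  rw [List.mem_sublists]
  refine List.sublist_of_subperm_of_pairwise (r := (· < ·)) ?_ hp List.pairwise_lt_range
  have hnd : s.Nodup := List.Pairwise.imp (fun h => ne_of_lt h) hp
  exact hnd.subperm fun b hb' => List.mem_range.mpr (hb b hb')

/-- Automorphisms of the cover are inner. -/
theorem cover_inner [Finite A] (hc : Cover A σ e) (hperf : Group.IsPerfect A) (φ : MulAut A) :
    ∃ c, ∀ x, φ x = c * x * c⁻¹ := by
  have hφe : φ e = e := by
    have h1 : σ (φ e) ∈ Subgroup.center RuMult82.H := by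
      rw [Subgroup.mem_center_iff]
      intro h
      obtain ⟨x, rfl⟩ := hc.surj h
      obtain ⟨x', rfl⟩ := φ.surjective x
      rw [← map_mul, ← map_mul, ← map_mul, ← map_mul, hc.e_comm]
    rw [RuLattice.simple_center, Subgroup.mem_bot] at h1
    rcases hc.ker _ h1 with h | h
    · exact absurd (φ.injective (h.trans (map_one φ).symm)) hc.e_ne
    · exact h
  have hker : σ.ker.map (φ : A →* A) = σ.ker := by
    ext k
    constructor
    · rintro ⟨j, hj, rfl⟩
      rcases hc.ker j hj with rfl | rfl
      · simp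
      · show σ (φ _) = 1
        rw [hφe]; exact hc.e_map
    · intro hk
      rcases hc.ker k hk with rfl | rfl
      · exact ⟨1, one_mem _, map_one _⟩
      · exact ⟨k, hk, hφe⟩
  let ε := QuotientGroup.quotientKerEquivOfSurjective σ hc.surj
  let α : MulAut RuMult82.H := ε.symm.trans ((QuotientGroup.congr σ.ker σ.ker φ hker).trans ε)
  obtain ⟨y, hy⟩ := Cfsg.Agent.SporB.Ru.Out.inner α
  obtain ⟨c, rfl⟩ := hc.surj y
  have hmk : ∀ x : A, ε (QuotientGroup.mk' σ.ker x) = σ x := fun x => rfl
  have hdiff : ∀ x, (c * x * c⁻¹)⁻¹ * φ x ∈ σ.ker := fun x => by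
    have h := DFunLike.congr_fun hy (σ x)
    have h1 : α (σ x) = σ (φ x) := by
      show ε (QuotientGroup.congr σ.ker σ.ker φ hker (ε.symm (σ x))) = _
      rw [← hmk x, ε.symm_apply_apply]
      rfl
    rw [h1, MulAut.conj_apply] at h
    rw [MonoidHom.mem_ker, map_mul, map_inv, map_mul, map_mul, map_inv, ← h, inv_mul_cancel]
  let θ : A →* σ.ker := MonoidHom.mk' (fun x => ⟨(c * x * c⁻¹)⁻¹ * φ x, hdiff x⟩) fun x y => by
    refine Subtype.ext ?_
    show (c * (x * y) * c⁻¹)⁻¹ * φ (x * y) = (c * x * c⁻¹)⁻¹ * φ x * ((c * y * c⁻¹)⁻¹ * φ y)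
    have hx : (c * x * c⁻¹)⁻¹ * φ x * (c * y * c⁻¹)⁻¹ =
        (c * y * c⁻¹)⁻¹ * ((c * x * c⁻¹)⁻¹ * φ x) := by
      rcases hc.ker _ (hdiff x) with h | h <;> rw [h]
      · rw [one_mul, mul_one]
      · exact (hc.e_comm _).symm
    rw [map_mul, show (c * (x * y) * c⁻¹)⁻¹ = (c * y * c⁻¹)⁻¹ * (c * x * c⁻¹)⁻¹ by group]
    calc (c * y * c⁻¹)⁻¹ * (c * x * c⁻¹)⁻¹ * (φ x * φ y)
        = (c * y * c⁻¹)⁻¹ * ((c * x * c⁻¹)⁻¹ * φ x) * φ y := by group
      _ = (c * x * c⁻¹)⁻¹ * φ x * (c * y * c⁻¹)⁻¹ * φ y := by rw [hx]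
      _ = _ := by group
  have htriv : ∀ x, θ x = 1 := fun x => by
    have hle : commutator A ≤ θ.ker := by
      rw [commutator_def, Subgroup.commutator_le]
      intro a _ b _
      rw [MonoidHom.mem_ker, map_commutatorElement, commutatorElement_eq_one_iff_mul_comm]
      refine Subtype.ext ?_
      rcases hc.ker _ (θ a).2 with h | h
      · simp [h]
      · show (θ a : A) * (θ b : A) = (θ b : A) * (θ a : A)
        rw [h, hc.e_comm]
    exact hle (by rw [hperf.commutator_eq_top]; exact Subgroup.mem_top x)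
  exact ⟨c, fun x => (inv_mul_eq_one.1 (congrArg Subtype.val (htriv x))).symm⟩

set_option maxHeartbeats 1000000 in
/-- The properties hold. -/
theorem props [Finite A] (hc : Cover A σ e) (hperf : Group.IsPerfect A) : Props A e := by
  classical
  haveI : Fact (Nat.Prime 2) := ⟨Nat.prime_two⟩
  obtain ⟨y, hy14, hyσ, hrels⟩ := exists_presentation hc
  obtain ⟨hs, hcn⟩ := cert2_shape
  have hsub14 : ∀ {w : List ℕ}, (∀ b ∈ w, b < 15) →
      σ (evalWord y w) = evalWord aFun (pref 14 w) := by
    intro w
    induction w with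
    | nil => intro _; exact map_one σ
    | cons b w ih =>
      intro hw
      show σ (y b * evalWord y w) = _
      rw [map_mul, ih fun c hc' => hw c (List.mem_cons_of_mem _ hc')]
      by_cases hb : b < 14
      · simp only [pref]
        rw [hyσ b hb, List.filter_cons_of_pos (by simpa using hb)]
        rfl
      · have := hw b (by simp)
        obtain rfl : b = 14 := by omega
        simp only [pref]
        rw [hy14, hc.e_map, one_mul, List.filter_cons_of_neg (by simp)]
  have tailnorm : ∀ {u : List ℕ}, cert2.Norm 0 u → pref 14 u = [] → u = [] ∨ u = [14] := by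
    intro u hu hp
    have hall : ∀ b ∈ u, b = 14 := fun b hb => by
      have h1 : b < 15 := (hu.2 b hb).2
      have h2 := List.filter_eq_nil_iff.mp hp b hb
      simp only [Nat.blt_eq, not_lt] at h2
      omega
    match u, hu, hall with
    | [], _, _ => exact Or.inl rfl
    | [b], _, hall => exact Or.inr (by rw [hall b (by simp)])
    | b :: c :: t, hu, hall =>
      have := (List.pairwise_cons.mp hu.1).1 c (by simp)
      have := hall b (by simp); have := hall c (by simp)
      omega
  have hH : Holds cert2 y (fun _ => 1) :=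
    { rels := hrels
      fused := fun k p hp => by simp [cert2] at hp
      indep := fun u hu h => by
        have h14 : pref 14 u = [] := RuMult82.holds.indep _
          ⟨hu.1.filter _, fun b hb => ⟨Nat.zero_le _, Nat.le_of_ble_eq_true (List.mem_filter.mp hb).2⟩⟩
          (by rw [← hsub14 fun b hb => (hu.2 b hb).2, h, map_one])
        rcases tailnorm hu h14 with rfl | rfl
        · rfl
        · exact absurd (by simpa [evalWord, hy14] using h) hc.e_ne }
  set T := SylowTail.sub cert2 y with hT
  have hgen : ∀ i < 15, y i ∈ T := fun i hi => Subgroup.subset_closure ⟨i, hi, rfl⟩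
  have hcardT : Nat.card T = 2 ^ 15 := card_sub hs hH
  have hcardA : Nat.card A = 2 ^ 15 * 8906625 := by
    have h1 : Nat.card σ.ker = 2 := by
      have : (σ.ker : Set A) = {1, e} := by
        ext k
        exact ⟨fun hk => hc.ker k hk, fun hk => by
          rcases hk with rfl | rfl
          · exact one_mem _
          · exact hc.e_map⟩
      rw [← SetLike.coe_sort_coe, Nat.card_coe_set_eq, this, Set.ncard_pair (Ne.symm hc.e_ne)]
    rw [← Subgroup.card_mul_index σ.ker, h1, Subgroup.index_ker,
      MonoidHom.range_eq_top.mpr hc.surj, Subgroup.card_top,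
      show Nat.card RuMult82.H = 145926144000 from g0_step.1]
    norm_num
  let S : Sylow 2 A := Sylow.ofCard T (by
    rw [hcardT, hcardA, Nat.factorization_mul (by norm_num) (by norm_num), Finsupp.add_apply,
      Nat.Prime.factorization_pow Nat.prime_two, Finsupp.single_eq_same,
      Nat.factorization_eq_zero_of_not_dvd (n := 8906625) (by norm_num)])
  have hST : (S : Subgroup A) = T := rfl
  have conjS : ∀ {b : A} {n : ℕ}, b ^ 2 ^ n = 1 → ∃ c, c * b * c⁻¹ ∈ T := by
    intro b n hb
    have hp : IsPGroup 2 (Subgroup.zpowers b) := by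
      rintro ⟨x, hx⟩
      obtain ⟨m, rfl⟩ := Subgroup.mem_zpowers_iff.1 hx
      refine ⟨n, Subtype.ext ?_⟩
      show (b ^ m) ^ 2 ^ n = 1
      rw [← zpow_natCast, ← zpow_mul, mul_comm, zpow_mul, zpow_natCast, hb, one_zpow]
    obtain ⟨P, hP⟩ := hp.exists_le_sylow
    obtain ⟨c, hc'⟩ := MulAction.exists_smul_eq A P S
    refine ⟨c, ?_⟩
    have : c * b * c⁻¹ ∈ ((c • P : Sylow 2 A) : Subgroup A) :=
      ⟨b, hP (Subgroup.mem_zpowers b), rfl⟩
    rwa [hc', hST] at this
  -- roots of the central generator in the Sylow subgroup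
  have roots : ∀ a ∈ T, a * a = e → ∃ c ∈ T, ∃ r ∈ rootLev 15, cert2.Norm 0 r ∧
      c⁻¹ * a * c = evalWord y r := by
    intro a ha h
    obtain ⟨c, hc', r, hr, hm⟩ := mem_levels hs hH hcn (target := [14])
      (norm_of_isNorm cert2 (by decide)) (by simp [evalWord, hy14, hc.e_comm])
      (lev := rootLev) (moves := rootMoves) (by simp [rootLev]) (fun k hk => rootSteps_ok k hk)
      ha (by simp [evalWord, hy14, h]) 15 le_rfl
    exact ⟨c, hc', r, hr, hm.1, modk_top hs hH hm⟩
  have rootFinal : ∀ r ∈ rootLev 15, pref 6 r ≠ [] ∧ ∀ s ∈ (List.range 6).sublists,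
      ∀ p, nfT cert2 6 (s ++ s) = some p → p ≠ pref 6 r := by
    intro r hr
    have h := List.all_eq_true.mp rootFinal_ok r hr
    simp only [Bool.and_eq_true, Bool.not_eq_true', List.isEmpty_eq_false_iff, List.all_eq_true] at h
    refine ⟨h.1, fun s hs' p hp => ?_⟩
    have h2 := h.2 s hs'
    rw [hp] at h2
    simpa using h2
  have rootTotal : ∀ s ∈ (List.range 6).sublists, ∀ r ∈ rootLev 15,
      ∃ p, nfT cert2 6 (s ++ s) = some p := by
    intro s hs' r hr
    have h := List.all_eq_true.mp rootFinal_ok r hr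
    simp only [Bool.and_eq_true, List.all_eq_true] at h
    have h2 := h.2 s hs'
    split at h2
    · rename_i p hp; exact ⟨p, hp⟩
    · simp at h2
  have no_eight : ∀ b : A, b ^ 4 ≠ e := by
    intro b hb
    obtain ⟨c, hcb⟩ := conjS (b := b) (n := 3) (by
      rw [show (2:ℕ) ^ 3 = 4 * 2 by norm_num, pow_mul, hb, pow_two, hc.e_sq])
    set b0 := c * b * c⁻¹ with hb0
    have hb04 : b0 * b0 * (b0 * b0) = e := by
      rw [hb0, show c * b * c⁻¹ * (c * b * c⁻¹) * (c * b * c⁻¹ * (c * b * c⁻¹)) =
        c * (b * b * (b * b)) * c⁻¹ by group, show b * b * (b * b) = b ^ 4 by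
        simp [pow_succ, mul_assoc], hb, hc.e_comm c, mul_assoc, mul_inv_cancel, mul_one]
    obtain ⟨d, hd, r, hr, nr, hdr⟩ := roots (b0 * b0) (mul_mem hcb hcb) hb04
    have hb1 : d⁻¹ * b0 * d ∈ T := mul_mem (mul_mem (inv_mem hd) hcb) hd
    obtain ⟨s, hsm, -⟩ := modk_exists hs hH (k := 6) hb1
    have hsl : s ∈ (List.range 6).sublists := mem_range_sublists hsm.1.1 hsm.2.1
    obtain ⟨p, hp⟩ := rootTotal s hsl r hr
    have h1 := modk_mulT hs hH hcn hsm hsm hp
    rw [show d⁻¹ * b0 * d * (d⁻¹ * b0 * d) = d⁻¹ * (b0 * b0) * d by group, hdr] at h1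
    exact (rootFinal r hr).2 s hsl p hp (modk_unique hs hH h1 (modk_eval hs hH nr))
  -- the centre of the Sylow subgroup
  have centre : ∀ z ∈ T, (∀ p ∈ T, p * z = z * p) →
      z = 1 ∨ z = y 13 ∨ z = e ∨ z = y 13 * e := by
    intro z hz hzc
    obtain ⟨u, hu, -⟩ := modk_exists hs hH (k := 15) hz
    have hmem := mem_cenTree hs hH hcn hz (fun i hi => (hzc _ (hgen i hi)).symm) 15 le_rfl u hu
    have hzu : z = evalWord y u := modk_top hs hH hu
    have h := List.all_eq_true.mp cenList_ok u hmem
    simp only [Bool.or_eq_true, beq_iff_eq] at h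
    rcases h with ((rfl | rfl) | rfl) | rfl <;> simp [hzu, evalWord, hy14]
  have y13c : ∀ p ∈ T, p * y 13 = y 13 * p := by
    intro p hp
    have hle : T ≤ Subgroup.centralizer ({y 13} : Set A) := by
      refine (Subgroup.closure_le _).mpr ?_
      rintro _ ⟨i, hi, rfl⟩
      rw [SetLike.mem_coe, Subgroup.mem_centralizer_singleton_iff]
      have h := List.all_eq_true.mp cen13_ok i (List.mem_range.mpr hi)
      split at h
      · rename_i p q hp' hq'
        rw [beq_iff_eq] at h
        have e1 := (nform_sound hH hp').1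
        have e2 := (nform_sound hH hq').1
        rw [h, ← e2] at e1
        simpa [evalWord] using e1
      · simp at h
    exact Subgroup.mem_centralizer_singleton_iff.1 (hle hp)
  have evalN : ∀ {u v : List ℕ}, nform cert2 u = some v → evalWord y u = evalWord y v :=
    fun h => (nform_sound hH h).1
  refine
    { e_sq := hc.e_sq
      e_ne := hc.e_ne
      e_comm := hc.e_comm
      center := fun x hx => hc.ker x (by
        have h1 : σ x ∈ Subgroup.center RuMult82.H := Subgroup.mem_center_iff.2 fun h => by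
          obtain ⟨g, rfl⟩ := hc.surj h
          rw [← map_mul, ← map_mul, hx]
        rwa [RuLattice.simple_center, Subgroup.mem_bot] at h1)
      inner := cover_inner hc hperf
      no_eight := no_eight
      sylow := ⟨S, ?_, ?_, ?_⟩ }
  · intro z hz hzc
    have hsq : ∀ u ∈ [[], [13], [14], [13, 14]], evalWord y u * evalWord y u = 1 := fun u hu => by
      rw [← evalWord_append]
      exact evalN (beq_iff_eq.mp (List.all_eq_true.mp sq_centre_ok u hu))
    rcases centre z hz hzc with rfl | rfl | rfl | rfl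
    · exact one_mul 1
    · simpa [evalWord] using hsq [13] (by simp)
    · exact hc.e_sq
    · simpa [evalWord, hy14] using hsq [13, 14] (by simp)
  · intro a ha ha1 hae
    obtain ⟨c, hca⟩ := conjS (b := a) (n := 1) (by rw [pow_one, pow_two, ha])
    have ha0 : c * a * c⁻¹ * (c * a * c⁻¹) = 1 := by
      rw [show c * a * c⁻¹ * (c * a * c⁻¹) = c * (a * a) * c⁻¹ by group, ha]; group
    obtain ⟨d, hd, r, hr, hm⟩ := mem_levels hs hH hcn (target := [])
      (norm_of_isNorm cert2 (by decide)) (by simp [evalWord])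
      (lev := invLev) (moves := invMoves) (by simp [invLev]) (fun k hk => invSteps_ok k hk)
      hca (by simpa [evalWord] using ha0) 15 le_rfl
    have hdr := modk_top hs hH hm
    have h := List.all_eq_true.mp invFinal_ok r hr
    simp only [Bool.or_eq_true, List.any_eq_true, beq_iff_eq, base14] at h
    have hcent : ∀ k, k = 1 ∨ k = e → ∀ w : A, w⁻¹ * k * w = k := by
      rintro k (rfl | rfl) w
      · group
      · rw [mul_assoc, ← hc.e_comm w, inv_mul_cancel_left]
    rcases h with h | ⟨⟨u, w⟩, hu, hur⟩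
    · exfalso
      have hre : evalWord y r = 1 ∨ evalWord y r = e := by
        rcases tailnorm hm.1 h with rfl | rfl
        · exact Or.inl rfl
        · exact Or.inr (by simp [evalWord, hy14])
      have ha' : a = (c⁻¹ * d)⁻¹⁻¹ * evalWord y r * (c⁻¹ * d)⁻¹ := by rw [← hdr]; group
      rw [hcent _ hre] at ha'
      rcases hre with h' | h' <;> rw [h'] at ha'
      · exact ha1 ha'
      · exact hae ha'
    · have hf := List.all_eq_true.mp fuse_ok (u, w) hu
      simp only [fuseOK, Bool.and_eq_true] at hf
      have hV : evalWord aFun u * V w = V w * aFun 13 := by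
        rw [show aFun 13 = evalWord aFun [13] from (mul_one _).symm, RuMult82.eval_expand,
          RuMult82.eval_expand]
        have := RuMult82.V_eq (small_append (small_expand u) hf.1)
          (small_append hf.1 (small_expand [13])) hf.2
        rwa [show V (expand u ++ w) = V (expand u) * V w from evalWord_append _ _ _,
          show V (w ++ expand [13]) = V w * V (expand [13]) from evalWord_append _ _ _] at this
      obtain ⟨gw, hgw⟩ := hc.surj (V w)
      refine ⟨gw⁻¹ * d⁻¹ * c, ?_⟩
      have himg : σ (gw⁻¹ * d⁻¹ * c * a * (gw⁻¹ * d⁻¹ * c)⁻¹) = σ (y 13) := by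
        rw [show gw⁻¹ * d⁻¹ * c * a * (gw⁻¹ * d⁻¹ * c)⁻¹ =
          gw⁻¹ * (d⁻¹ * (c * a * c⁻¹) * d) * gw by group, hdr, map_mul, map_mul, map_inv,
          hsub14 (fun b hb => (hm.1.2 b hb).2), hgw, ← hur, hyσ 13 (by norm_num), mul_assoc, hV,
          inv_mul_cancel_left]
      set q := gw⁻¹ * d⁻¹ * c * a * (gw⁻¹ * d⁻¹ * c)⁻¹ with hq
      have hq' : q = y 13 ∨ q = y 13 * e := by
        rcases hc.ker ((y 13)⁻¹ * q) (by rw [map_mul, map_inv, himg, inv_mul_cancel]) with h' | h'
        · exact Or.inl (inv_mul_eq_one.mp h').symm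
        · exact Or.inr (by rw [← h']; group)
      rcases hq' with h' | h' <;> rw [h']
      · exact ⟨hgen 13 (by norm_num), y13c⟩
      · refine ⟨mul_mem (hgen 13 (by norm_num)) (hy14 ▸ hgen 14 (by norm_num)), fun p hp => ?_⟩
        rw [← mul_assoc, y13c p hp, mul_assoc, hc.e_comm p, ← mul_assoc]
  · intro φ v hv hφ
    rcases centre v.1 v.2 (fun p hp => congrArg Subtype.val (hv ⟨p, hp⟩)) with h | h | h | h
    · exfalso
      have : v = 1 := Subtype.ext h
      rw [this, map_one] at hφ
      exact hc.e_ne hφ.symm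
    rotate_left
    · exact h
    all_goals
      exfalso
      obtain ⟨x, hx, hxv⟩ : ∃ x ∈ wits, evalWord y x.2.2.2.2.2 = (v : A) := by
        first
          | (refine ⟨([0], [1], [4], [3, 5, 7, 9, 10, 11, 13, 14], [8, 9, 11, 13], [13]), ?_, ?_⟩
             · simp [wits]
             · simp only [evalWord, mul_one, h]
             done)
          | (refine ⟨([0, 2], [1], [0], [5, 10, 11, 13], [7, 12], [13, 14]), ?_, ?_⟩
             · simp [wits]
             · simp only [evalWord, mul_one, hy14, h]
             done)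
      obtain ⟨wa, wb, wc, wt, wu, wv⟩ := x
      have hw := List.all_eq_true.mp wits_ok _ hx
      have hlt : ((wa ++ wb ++ wc ++ wt ++ wu).all fun i => Nat.blt i 15) = true := by
        have : (wits.all fun x => (x.1 ++ x.2.1 ++ x.2.2.1 ++ x.2.2.2.1 ++ x.2.2.2.2.1).all
            fun i => Nat.blt i 15) = true := by decide
        exact List.all_eq_true.mp this _ hx
      simp only [List.all_eq_true, List.mem_append, Nat.blt_eq] at hlt
      simp only [witOK] at hw
      split at hw
      case h_2 => simp at hw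
      rename_i n1 n2 n3 n4 n5 e1 e2 e3 e4 e5
      simp only [Bool.and_eq_true, beq_iff_eq] at hw
      obtain ⟨⟨r1, r2⟩, r3⟩ := hw
      have q1 : evalWord y wa * evalWord y wb = evalWord y wb * evalWord y wa * evalWord y wt := by
        rw [← evalWord_append, ← evalWord_append, ← evalWord_append, evalN e1, evalN e2, r1]
      have q2 : evalWord y wt * evalWord y wc = evalWord y wc * evalWord y wt * evalWord y wu := by
        rw [← evalWord_append, ← evalWord_append, ← evalWord_append, evalN e3, evalN e4, r2]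
      have q3 : evalWord y wu * evalWord y wu = (v : A) := by
        rw [← evalWord_append, evalN e5, r3, ← hxv]
      have mem : ∀ {w : List ℕ}, (∀ i ∈ w, i < 15) → evalWord y w ∈ T :=
        fun h => eval_mem_sub hH h
      -- move everything by the automorphism
      set F : ∀ w : List ℕ, (∀ i ∈ w, i < 15) → A := fun w hw =>
        ((φ ⟨evalWord y w, mem hw⟩ : ↥(S : Subgroup A)) : A) with hF
      have la : ∀ i ∈ wa, i < 15 := fun i hi => hlt i (by simp [hi])
      have lb : ∀ i ∈ wb, i < 15 := fun i hi => hlt i (by simp [hi])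
      have lc : ∀ i ∈ wc, i < 15 := fun i hi => hlt i (by simp [hi])
      have lt' : ∀ i ∈ wt, i < 15 := fun i hi => hlt i (by simp [hi])
      have lu : ∀ i ∈ wu, i < 15 := fun i hi => hlt i (by simp [hi])
      have Q1 : F wa la * F wb lb = F wb lb * F wa la * F wt lt' := by
        simp only [hF, ← Subgroup.coe_mul, ← map_mul]
        exact congrArg (fun x : ↥(S : Subgroup A) => ((φ x : ↥(S : Subgroup A)) : A)) (Subtype.ext q1)
      have Q2 : F wt lt' * F wc lc = F wc lc * F wt lt' * F wu lu := by
        simp only [hF, ← Subgroup.coe_mul, ← map_mul]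
        exact congrArg (fun x : ↥(S : Subgroup A) => ((φ x : ↥(S : Subgroup A)) : A)) (Subtype.ext q2)
      have Q3 : F wu lu * F wu lu = e := by
        simp only [hF, ← Subgroup.coe_mul, ← map_mul]
        rw [← hφ]
        exact congrArg (fun x : ↥(S : Subgroup A) => ((φ x : ↥(S : Subgroup A)) : A)) (Subtype.ext q3)
      have FT : ∀ w hw, F w hw ∈ T := fun w hw => (φ ⟨evalWord y w, mem hw⟩).2
      have hgens : ∀ {k k' : ℕ}, commGens k k' = true → ∀ s < k', k ≤ s → ∀ t < k',
          ∃ p q, nfT cert2 k' [s, t] = some p ∧ nfT cert2 k' [t, s] = some q ∧ p = q := by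
        intro k k' hk s hs' hks t ht
        simp only [commGens, List.all_eq_true, List.mem_range, Bool.or_eq_true, Nat.blt_eq] at hk
        rcases hk s hs' with h' | h'
        · omega
        have h'' := h' t ht
        split at h''
        · rename_i p q hp hq; exact ⟨p, q, hp, hq, beq_iff_eq.mp h''⟩
        · simp at h''
      have hhigh0 : ∀ {a : A}, a ∈ T → a ∈ high cert2 y (⊥ : Subgroup A) 0 := fun {a} ha => by
        obtain ⟨-, -, w, nw, rfl, -⟩ := modk_exists hs hH (k := 0) ha
        exact word_mem_high fun b hb => ⟨Nat.zero_le _, (nw.2 b hb).2⟩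
      obtain ⟨m1, hm1, em1⟩ := comm_high hs hH hcn (hgens comm_ok.1) (hhigh0 (FT wa la)) (FT wb lb)
      have ht3 : F wt lt' ∈ high cert2 y (⊥ : Subgroup A) 3 := by
        rw [em1] at Q1
        exact (mul_left_cancel Q1) ▸ hm1
      obtain ⟨m2, hm2, em2⟩ := comm_high hs hH hcn (hgens comm_ok.2) ht3 (FT wc lc)
      have hu6 : F wu lu ∈ high cert2 y (⊥ : Subgroup A) 6 := by
        rw [em2] at Q2
        exact (mul_left_cancel Q2) ▸ hm2
      obtain ⟨d, hd, r, hr, nr, hdr⟩ := roots _ (FT wu lu) Q3
      have h6 := conj_high hs hH hcn hd hu6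
      rw [hdr] at h6
      exact (rootFinal r hr).1 (modk_unique hs hH (modk_eval hs hH nr)
        ⟨⟨List.Pairwise.nil, by simp⟩, by simp, _, h6, (one_mul _).symm⟩)

end Cfsg.Agent.RuStandard47
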