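import Cfsg.Agent.SylowTail.Reduce

/-!
Searching a two-group given by a polycyclic presentation, one generator at a time.
-/

set_option autoImplicit false

namespace Cfsg.Agent.RuStandard47

open Cfsg.Agent.CosetEnum Cfsg.Agent.SylowTail

/-- Rewrite a word by the relations. -/
def red (D : Data) : ℕ → List ℕ → Option (List ℕ)
  | 0, _ => none
  | fuel + 1, w =>
    match descL w with
    | none => some w
    | some (p, a, b, q) =>
      match D.rels[D.rix a b]? with
      | none => none
      | some r => if r.1 = [a, b] then red D fuel (p ++ r.2 ++ q) else none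

/-- The word is increasing, with entries below the number of generators. -/
def isNorm (D : Data) : List ℕ → Bool
  | [] => true
  | [a] => Nat.blt a D.n
  | a :: b :: w => Nat.blt a b && Nat.blt a D.n && isNorm D (b :: w)

/-- The normal form, when the rewriting succeeds. -/
def nform (D : Data) (w : List ℕ) : Option (List ℕ) :=
  match red D D.fuel w with
  | none => none
  | some r => if isNorm D r then some r else none

/-- The part below `k`. -/
def pref (k : ℕ) (w : List ℕ) : List ℕ := w.filter fun b => Nat.blt b k

/-- The normal form below `k`. -/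
def nfp (D : Data) (k : ℕ) (w : List ℕ) : Option (List ℕ) := (nform D w).map (pref k)

/-- Rewrite a word, forgetting the generators from `K` on. -/
def redT (D : Data) (K : ℕ) : ℕ → List ℕ → Option (List ℕ)
  | 0, _ => none
  | fuel + 1, w =>
    match descL w with
    | none => some w
    | some (p, a, b, q) =>
      match D.rels[D.rix a b]? with
      | none => none
      | some r => if r.1 = [a, b] then redT D K fuel (p ++ pref K r.2 ++ q) else none

/-- The normal form below `K`. -/
def nfT (D : Data) (K : ℕ) (w : List ℕ) : Option (List ℕ) :=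
  match redT D K D.fuel (pref K w) with
  | none => none
  | some r => if isNorm D r && r.all (fun b => Nat.blt b K) then some r else none

/-- The two extensions of each word. -/
def cands (k : ℕ) (L : List (List ℕ)) : List (List ℕ) := L.flatMap fun u => [u, u ++ [k]]

/-- One step of the search for square roots of the target up to conjugation: a candidate either
fails, or is moved onto a word of the next list. -/
def stepOK (D : Data) (target : List ℕ) (k : ℕ) (L : List (List ℕ))
    (moves : List (List ℕ × ℕ)) (L' : List (List ℕ)) : Bool :=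
  L'.all (fun r => isNorm D r && r.all fun b => Nat.blt b (k + 1)) &&
  moves.length == (cands k L).length &&
  ((cands k L).zip moves).all fun x =>
    (match nfT D (k + 1) (x.1 ++ x.1) with
      | none => false
      | some p => !(p == pref (k + 1) target)) ||
    (x.2.1.all (fun b => Nat.blt b D.n && Nat.blt b (k + 1)) && Nat.blt x.2.2 L'.length &&
      match nfT D (k + 1) (x.1 ++ x.2.1), nfT D (k + 1) (x.2.1 ++ L'.getD x.2.2 []) with
      | some p, some q => p == q
      | _, _ => false)

/-- Words below `n` commuting with the generators below each `k`. -/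
def cenTree (D : Data) : ℕ → List (List ℕ)
  | 0 => [[]]
  | k + 1 => let L := cenTree D k
    (L ++ L.map (fun u => u ++ [k])).filter fun u =>
      (List.range D.n).all fun i =>
        match nfp D (k + 1) (u ++ [i]), nfp D (k + 1) (i :: u) with
        | some p, some q => p == q
        | _, _ => true

/-- Moving a generator past an earlier one introduces only later ones. -/
def centralOK (D : Data) : Bool :=
  (List.range D.n).all fun i => (List.range D.n).all fun j =>
    if j ≤ i then true else
      match D.rels[D.rix j i]? with
      | none => false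
      | some r => r.2.tail.all fun c => Nat.ble j c

theorem norm_of_isNorm (D : Data) : ∀ {w : List ℕ}, isNorm D w = true → D.Norm 0 w
  | [], _ => ⟨List.Pairwise.nil, by simp⟩
  | [a], h => by
    refine ⟨List.pairwise_singleton _ _, fun b hb => ⟨Nat.zero_le _, ?_⟩⟩
    rw [List.mem_singleton.mp hb]
    simpa [isNorm] using h
  | a :: b :: w, h => by
    simp only [isNorm, Bool.and_eq_true, Nat.blt_eq] at h
    obtain ⟨hp, hb⟩ := norm_of_isNorm D h.2
    refine ⟨List.pairwise_cons.mpr ⟨fun c hc => ?_, hp⟩, fun c hc => ?_⟩
    · rcases List.mem_cons.mp hc with rfl | hc'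
      · exact h.1.1
      · exact h.1.1.trans ((List.pairwise_cons.mp hp).1 c hc')
    · rcases List.mem_cons.mp hc with rfl | hc'
      · exact ⟨Nat.zero_le _, h.1.2⟩
      · exact hb c hc'

theorem pref_succ (k : ℕ) : ∀ {v : List ℕ}, v.Pairwise (· < ·) →
    pref (k + 1) v = pref k v ∨ pref (k + 1) v = pref k v ++ [k]
  | [], _ => Or.inl rfl
  | b :: w, hp => by
    have hp' := List.pairwise_cons.mp hp
    rcases lt_trichotomy b k with hb | rfl | hb
    · simp only [pref, List.filter_cons]
      rw [if_pos (by simp; omega), if_pos (by simpa using hb)]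
      rcases pref_succ k hp'.2 with h' | h'
      · exact Or.inl (congrArg (List.cons b) h')
      · exact Or.inr (congrArg (List.cons b) h')
    · refine Or.inr ?_
      simp only [pref, List.filter_cons]
      rw [if_pos (by simp), if_neg (by simp),
        List.filter_eq_nil_iff.mpr (fun c hc => by have := hp'.1 c hc; simp; omega),
        List.filter_eq_nil_iff.mpr (fun c hc => by have := hp'.1 c hc; simp; omega)]
      rfl
    · refine Or.inl ?_
      simp only [pref, List.filter_cons]
      rw [if_neg (by simp; omega), if_neg (by simp; omega),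
        List.filter_eq_nil_iff.mpr (fun c hc => by have := hp'.1 c hc; simp; omega),
        List.filter_eq_nil_iff.mpr (fun c hc => by have := hp'.1 c hc; simp; omega)]

variable {E : Type} [Group E] [Finite E] {D : Data} (hs : D.shapeOK = true) {X g : ℕ → E}
  (H : Holds D X g) (hcn : centralOK D = true)

omit [Finite E] in
include H in
theorem red_sound : ∀ (fuel : ℕ) {w r : List ℕ}, red D fuel w = some r →
    evalWord X w = evalWord X r
  | 0, _, _, h => by simp [red] at h
  | fuel + 1, w, r, h => by
    simp only [red] at h
    split at h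
    · simp only [Option.some.injEq] at h
      rw [h]
    · rename_i p a b q hd
      split at h
      · simp at h
      · rename_i rel hr
        split at h
        · rename_i hab
          rw [← red_sound fuel h, descL_eq hd, show a :: b :: q = rel.1 ++ q by rw [hab]; rfl,
            evalWord_append, evalWord_append, evalWord_append, evalWord_append, H.rels _ _ hr,
            mul_assoc]
        · simp at h

omit [Finite E] in
include H in
theorem nform_sound {w r : List ℕ} (h : nform D w = some r) :
    evalWord X w = evalWord X r ∧ D.Norm 0 r := by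
  simp only [nform] at h
  split at h
  · simp at h
  · rename_i r' hr
    split at h
    · rename_i hn
      simp only [Option.some.injEq] at h
      subst h
      exact ⟨red_sound H _ hr, norm_of_isNorm D hn⟩
    · simp at h

include hs H

theorem inv_mem_high {k : ℕ} {x : E} (h : x ∈ high D X (⊥ : Subgroup E) k) :
    x⁻¹ ∈ high D X (⊥ : Subgroup E) k := by
  have : x⁻¹ = x ^ (orderOf x - 1) :=
    inv_eq_of_mul_eq_one_right (by
      rw [← pow_succ', Nat.sub_add_cancel (orderOf_pos x), pow_orderOf_eq_one])
  rw [this]
  exact pow_mem h _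

theorem gen_notMem {k : ℕ} (hk : k < D.n) : X k ∉ high D X (⊥ : Subgroup E) (k + 1) := fun h => by
  have hi := inv_mem_high hs H h
  rw [← SetLike.mem_coe, ← vals_eq_high hs H (k + 1) (by omega)] at hi
  obtain ⟨u, ⟨hu1, hu2⟩, hu3⟩ := hi
  have h0 := H.indep (k :: u) ⟨List.pairwise_cons.mpr ⟨fun c hc => (hu2 c hc).1, hu1⟩,
    fun c hc => ⟨Nat.zero_le _, by
      rcases List.mem_cons.mp hc with rfl | hc
      · exact hk
      · exact (hu2 c hc).2⟩⟩ (by
        show X k * evalWord X u = 1
        rw [hu3, mul_inv_cancel])
  simp at h0

theorem norm_inj : ∀ {u v : List ℕ}, D.Norm 0 u → D.Norm 0 v → evalWord X u = evalWord X v → u = v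
  | [], v, _, hv, h => (H.indep v hv h.symm).symm
  | a :: u, [], hu, _, h => H.indep _ hu h
  | a :: u, b :: v, hu, hv, h => by
    have hu' : D.Norm 0 u := ⟨(List.pairwise_cons.mp hu.1).2, fun c hc => hu.2 c (List.mem_cons_of_mem _ hc)⟩
    have hv' : D.Norm 0 v := ⟨(List.pairwise_cons.mp hv.1).2, fun c hc => hv.2 c (List.mem_cons_of_mem _ hc)⟩
    have key : ∀ {a b : ℕ} {u v : List ℕ}, D.Norm 0 (a :: u) → D.Norm 0 (b :: v) → a < b →
        evalWord X (a :: u) ≠ evalWord X (b :: v) := by
      intro a b u v hu hv hab h
      refine gen_notMem hs H (hu.2 a (by simp)).2 ?_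
      have hu1 : evalWord X u ∈ high D X (⊥ : Subgroup E) (a + 1) := word_mem_high fun c hc =>
        ⟨(List.pairwise_cons.mp hu.1).1 c hc, (hu.2 c (List.mem_cons_of_mem _ hc)).2⟩
      have hv1 : evalWord X (b :: v) ∈ high D X (⊥ : Subgroup E) (a + 1) := word_mem_high fun c hc => by
        refine ⟨?_, (hv.2 c hc).2⟩
        rcases List.mem_cons.mp hc with rfl | hc'
        · exact hab
        · exact hab.trans ((List.pairwise_cons.mp hv.1).1 c hc')
      rw [show X a = evalWord X (b :: v) * (evalWord X u)⁻¹ by
        rw [← h]; show X a = X a * evalWord X u * (evalWord X u)⁻¹; group]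
      exact mul_mem hv1 (inv_mem_high hs H hu1)
    rcases lt_trichotomy a b with hab | rfl | hab
    · exact absurd h (key hu hv hab)
    · rw [norm_inj hu' hv' (mul_left_cancel (show X a * evalWord X u = X a * evalWord X v from h))]
    · exact absurd h.symm (key hv hu hab)

/-- Congruence modulo the later generators. -/
def Modk (D : Data) (X : ℕ → E) (k : ℕ) (a : E) (u : List ℕ) : Prop :=
  D.Norm 0 u ∧ (∀ b ∈ u, b < k) ∧ ∃ m ∈ high D X (⊥ : Subgroup E) k, a = evalWord X u * m

include hcn in
theorem past_word {k : ℕ} : ∀ {v : List ℕ}, (∀ b ∈ v, b < k ∧ b < D.n) → ∀ {m : E},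
    m ∈ high D X (⊥ : Subgroup E) k →
      ∃ m' ∈ high D X (⊥ : Subgroup E) k, m * evalWord X v = evalWord X v * m'
  | [], _, m, hm => ⟨m, hm, by simp [evalWord]⟩
  | b :: v, hv, m, hm => by
    obtain ⟨hbk, hbn⟩ := hv b (by simp)
    -- move `m` past one generator, staying among the generators from `k` on
    have step : ∀ {m : E}, m ∈ high D X (⊥ : Subgroup E) k →
        ∃ m' ∈ high D X (⊥ : Subgroup E) k, m * X b = X b * m' := by
      intro m hm
      induction hm using Submonoid.closure_induction with
      | mem e he =>
        rcases he with ⟨j, hkj, hj, rfl⟩ | he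
        · obtain ⟨w, hw, hb'⟩ := (Data.shape hs hbn).2 j (by omega) hj
          have e1 : X j * X b = X b * evalWord X w := by
            have := H.rels _ _ hw
            simpa [evalWord] using this
          refine ⟨(X b)⁻¹ * (X j * X b), ?_, by group⟩
          rw [e1, inv_mul_cancel_left]
          refine word_mem_high fun c hc => ⟨?_, (hb' c hc).2⟩
          simp only [centralOK, List.all_eq_true, List.mem_range] at hcn
          have hc2 := hcn b hbn j hj
          rw [if_neg (by omega), hw] at hc2
          simp only [List.tail_cons, List.all_eq_true, Nat.ble_eq] at hc2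
          exact hkj.trans (hc2 c hc)
        · exact ⟨e, cen_mem_high he, by rw [Subgroup.mem_bot.mp he]; group⟩
      | one => exact ⟨1, one_mem _, by simp⟩
      | mul a c _ _ iha ihc =>
        obtain ⟨a', ha', ea⟩ := iha
        obtain ⟨c', hc', ec⟩ := ihc
        exact ⟨a' * c', mul_mem ha' hc', by rw [mul_assoc, ec, ← mul_assoc, ea, mul_assoc]⟩
    obtain ⟨m1, hm1, e1⟩ := step hm
    obtain ⟨m2, hm2, e2⟩ := past_word (fun c hc => hv c (List.mem_cons_of_mem _ hc)) hm1
    refine ⟨m2, hm2, ?_⟩
    show m * (X b * evalWord X v) = X b * evalWord X v * m2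
    rw [← mul_assoc, e1, mul_assoc, e2, mul_assoc]

theorem modk_exists {k : ℕ} {a : E} (ha : a ∈ sub D X) :
    ∃ u, Modk D X k a u ∧ ∃ v, D.Norm 0 v ∧ a = evalWord X v ∧ u = pref k v := by
  have ha' : a ∈ (vals D X 0) := by
    rw [vals_eq_high hs H 0 (Nat.zero_le _)]
    exact closure_le_high (X := X) (C := (⊥ : Subgroup E)) hs
      (fun j r hr => by rw [Subgroup.mem_bot, inv_mul_eq_one, H.rels j r hr]) a
      (Subgroup.closure_mono Set.subset_union_left ha)
  obtain ⟨v, hv, rfl⟩ := ha'
  refine ⟨pref k v, ⟨⟨hv.1.filter _, fun b hb => hv.2 b (List.mem_filter.mp hb).1⟩,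
    fun b hb => Nat.le_of_ble_eq_true (List.mem_filter.mp hb).2, ?_⟩, v, hv, rfl, rfl⟩
  clear ha
  induction v with
  | nil => exact ⟨1, one_mem _, by simp [pref, evalWord]⟩
  | cons b w ih =>
    have hw : D.Norm 0 w :=
      ⟨(List.pairwise_cons.mp hv.1).2, fun c hc => hv.2 c (List.mem_cons_of_mem _ hc)⟩
    by_cases hb : b < k
    · obtain ⟨m, hm, e⟩ := ih hw
      refine ⟨m, hm, ?_⟩
      rw [pref, List.filter_cons_of_pos (by simpa using hb), ← pref]
      show X b * evalWord X w = X b * evalWord X (pref k w) * m
      rw [e, mul_assoc]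
    · refine ⟨evalWord X (b :: w), word_mem_high fun c hc => ⟨?_, (hv.2 c hc).2⟩, ?_⟩
      · rcases List.mem_cons.mp hc with rfl | hc'
        · omega
        · have := (List.pairwise_cons.mp hv.1).1 c hc'; omega
      · rw [show pref k (b :: w) = [] by
          rw [pref, List.filter_eq_nil_iff]
          intro c hc
          have : b ≤ c := by
            rcases List.mem_cons.mp hc with rfl | hc'
            · exact le_rfl
            · exact ((List.pairwise_cons.mp hv.1).1 c hc').le
          simp only [Nat.blt_eq, not_lt]
          omega]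
        exact (one_mul _).symm

theorem modk_unique {k : ℕ} {a : E} {u v : List ℕ} (hu : Modk D X k a u) (hv : Modk D X k a v) :
    u = v := by
  obtain ⟨nu, bu, m, hm, eu⟩ := hu
  obtain ⟨nv, bv, n, hn, ev⟩ := hv
  by_cases hk : k ≤ D.n
  · rw [← SetLike.mem_coe, ← vals_eq_high hs H k hk] at hm hn
    obtain ⟨p, hp, rfl⟩ := hm
    obtain ⟨q, hq, rfl⟩ := hn
    have cat : ∀ {u p : List ℕ}, D.Norm 0 u → (∀ b ∈ u, b < k) → D.Norm k p →
        D.Norm 0 (u ++ p) := fun hu hb hp =>
      ⟨List.pairwise_append.mpr ⟨hu.1, hp.1, fun x hx y hy => by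
        have := hb x hx; have := (hp.2 y hy).1; omega⟩,
        fun c hc => ⟨Nat.zero_le _, (List.mem_append.mp hc).elim (fun h => (hu.2 c h).2)
          fun h => (hp.2 c h).2⟩⟩
    have hh := norm_inj hs H (cat nu bu hp) (cat nv bv hq) (by
      rw [evalWord_append, evalWord_append, ← eu, ← ev])
    have f : ∀ {u p : List ℕ}, (∀ b ∈ u, b < k) → D.Norm k p → pref k (u ++ p) = u := fun hb hp => by
      rw [pref, List.filter_append, List.filter_eq_self.mpr (fun b h => by simpa using hb b h),
        List.filter_eq_nil_iff.mpr (fun b h => by simpa using (hp.2 b h).1), List.append_nil]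
    rw [← f bu hp, hh, f bv hq]
  · have h1 : ∀ m ∈ high D X (⊥ : Subgroup E) k, m = 1 := fun m hm => by
      induction hm using Submonoid.closure_induction with
      | mem e he =>
        rcases he with ⟨j, hkj, hj, -⟩ | he
        · omega
        · exact Subgroup.mem_bot.mp he
      | one => rfl
      | mul x y _ _ hx hy => rw [hx, hy, one_mul]
    rw [h1 m hm, mul_one] at eu
    rw [h1 n hn, mul_one] at ev
    exact norm_inj hs H nu nv (eu.symm.trans ev)

include hcn in
theorem modk_mul {k : ℕ} {a b : E} {u v r : List ℕ} (ha : Modk D X k a u) (hb : Modk D X k b v)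
    (h : nfp D k (u ++ v) = some r) : Modk D X k (a * b) r := by
  obtain ⟨nu, bu, m, hm, rfl⟩ := ha
  obtain ⟨nv, bv, n, hn, rfl⟩ := hb
  obtain ⟨m', hm', em⟩ := past_word hs H hcn (fun c hc => ⟨bv c hc, (nv.2 c hc).2⟩) hm
  simp only [nfp, Option.map_eq_some_iff] at h
  obtain ⟨w, hw, rfl⟩ := h
  obtain ⟨ew, nw⟩ := nform_sound H hw
  have hsub : evalWord X w ∈ sub D X := by
    clear ew hw
    induction w with
    | nil => exact one_mem _
    | cons c t ih =>
      exact mul_mem (Subgroup.subset_closure ⟨c, (nw.2 c (by simp)).2, rfl⟩)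
        (ih ⟨(List.pairwise_cons.mp nw.1).2, fun d hd => nw.2 d (List.mem_cons_of_mem _ hd)⟩)
  obtain ⟨u', hu', v', nv', ev', rfl⟩ := modk_exists hs H (k := k) hsub
  rw [norm_inj hs H nw nv' ev'] at ew ⊢
  obtain ⟨nr, br, p, hp, ep⟩ := hu'
  refine ⟨nr, br, p * (m' * n), mul_mem hp (mul_mem hm' hn), ?_⟩
  calc evalWord X u * m * (evalWord X v * n) = evalWord X u * (m * evalWord X v) * n := by group
    _ = evalWord X u * evalWord X v * (m' * n) := by rw [em]; group
    _ = evalWord X (u ++ v) * (m' * n) := by rw [evalWord_append]
    _ = _ := by rw [ew, ← ev', ep]; group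

omit [Finite E] hs in
theorem eval_mem_sub : ∀ {w : List ℕ}, (∀ c ∈ w, c < D.n) → evalWord X w ∈ sub D X
  | [], _ => one_mem _
  | c :: t, hw => mul_mem (Subgroup.subset_closure ⟨c, hw c (by simp), rfl⟩)
      (eval_mem_sub fun d hd => hw d (List.mem_cons_of_mem _ hd))

theorem modk_eval {k : ℕ} {w : List ℕ} (hw : D.Norm 0 w) :
    Modk D X k (evalWord X w) (pref k w) := by
  obtain ⟨u, hu, v, nv, ev, rfl⟩ := modk_exists hs H (k := k)
    (eval_mem_sub H fun c hc => (hw.2 c hc).2)
  rwa [← norm_inj hs H hw nv ev] at hu

include hcn in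
theorem modk_word {K : ℕ} : ∀ {w : List ℕ}, (∀ b ∈ w, b < D.n) →
    ∃ m ∈ high D X (⊥ : Subgroup E) K, evalWord X w = evalWord X (pref K w) * m
  | [], _ => ⟨1, one_mem _, by simp [pref, evalWord]⟩
  | b :: w, hw => by
    obtain ⟨m, hm, e⟩ := modk_word (K := K) fun c hc => hw c (List.mem_cons_of_mem _ hc)
    by_cases hb : b < K
    · refine ⟨m, hm, ?_⟩
      rw [pref, List.filter_cons_of_pos (by simpa using hb), ← pref]
      show X b * evalWord X w = X b * evalWord X (pref K w) * m
      rw [e, mul_assoc]
    · obtain ⟨m', hm', e'⟩ := past_word hs H hcn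
        (v := pref K w) (fun c hc => ⟨Nat.le_of_ble_eq_true (List.mem_filter.mp hc).2,
          hw c (List.mem_cons_of_mem _ (List.mem_filter.mp hc).1)⟩)
        (gen_mem_high (show K ≤ b by omega) (hw b (by simp)))
      refine ⟨m' * m, mul_mem hm' hm, ?_⟩
      rw [pref, List.filter_cons_of_neg (by simpa using hb), ← pref]
      show X b * evalWord X w = _
      rw [e, ← mul_assoc, e', mul_assoc]

include hcn in
theorem redT_sound {K : ℕ} : ∀ (fuel : ℕ) {w r : List ℕ}, (∀ b ∈ w, b < K ∧ b < D.n) →
    redT D K fuel w = some r →
    ∃ m ∈ high D X (⊥ : Subgroup E) K, evalWord X w = evalWord X r * m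
  | 0, _, _, _, h => by simp [redT] at h
  | fuel + 1, w, r, hw, h => by
    simp only [redT] at h
    split at h
    · simp only [Option.some.injEq] at h
      exact ⟨1, one_mem _, by rw [h, mul_one]⟩
    · rename_i p a b q hd
      split at h
      · simp at h
      · rename_i rel hr
        split at h
        · rename_i hab
          rw [descL_eq hd] at hw ⊢
          have hq : ∀ c ∈ q, c < K ∧ c < D.n := fun c hc => hw c (by simp [hc])
          have ha := hw a (by simp)
          have hb' := hw b (by simp)
          have hrn : ∀ c ∈ rel.2, c < D.n := by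
            intro c hc
            have hne : D.rels[D.rix a b]? = some rel := hr
            rcases lt_trichotomy b a with hlt | rfl | hgt
            · obtain ⟨t, ht, hb2⟩ := (Data.shape hs hb'.2).2 a hlt ha.2
              rw [hr] at ht
              simp only [Option.some.injEq] at ht
              rw [ht] at hc
              rcases List.mem_cons.mp hc with rfl | hc'
              · exact hb'.2
              · exact (hb2 c hc').2
            · obtain ⟨t, ht, hb2⟩ := (Data.shape hs hb'.2).1
              rw [hr] at ht
              simp only [Option.some.injEq] at ht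
              rw [ht] at hc
              exact (hb2 c hc).2
            · exfalso
              have hdd : ∀ {w p q : List ℕ} {a b : ℕ}, descL w = some (p, a, b, q) → b ≤ a := by
                intro w
                induction w with
                | nil => intro p q a b h; simp [descL] at h
                | cons x w ih =>
                  intro p q a b h
                  cases w with
                  | nil => simp [descL] at h
                  | cons y w =>
                    simp only [descL] at h
                    split at h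
                    · rename_i hyx
                      simp only [Option.some.injEq, Prod.mk.injEq] at h
                      obtain ⟨-, rfl, rfl, -⟩ := h
                      exact hyx
                    · simp only [Option.map_eq_some_iff, Prod.mk.injEq] at h
                      obtain ⟨⟨p', a', b', q'⟩, h1, -, rfl, rfl, rfl⟩ := h
                      exact ih h1
              have := hdd hd
              omega
          obtain ⟨m1, hm1, e1⟩ := modk_word hs H hcn (K := K) hrn
          obtain ⟨m2, hm2, e2⟩ := past_word hs H hcn hq hm1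
          obtain ⟨m3, hm3, e3⟩ := redT_sound fuel (w := p ++ pref K rel.2 ++ q) (fun c hc => by
            simp only [List.mem_append] at hc
            rcases hc with (hc | hc) | hc
            · exact hw c (by simp [hc])
            · exact ⟨Nat.le_of_ble_eq_true (List.mem_filter.mp hc).2,
                hrn c (List.mem_filter.mp hc).1⟩
            · exact hq c hc) h
          refine ⟨m3 * m2, mul_mem hm3 hm2, ?_⟩
          rw [show a :: b :: q = rel.1 ++ q by rw [hab]; rfl, evalWord_append, evalWord_append,
            H.rels _ _ hr, e1, mul_assoc _ m1, e2,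
            show evalWord X p * (evalWord X (pref K rel.2) * (evalWord X q * m2)) =
              evalWord X p * evalWord X (pref K rel.2) * evalWord X q * m2 by group,
            ← evalWord_append, ← evalWord_append, e3, mul_assoc]
        · simp at h

include hcn in
theorem nfT_sound {K : ℕ} {w r : List ℕ} (hw : ∀ b ∈ w, b < D.n) (h : nfT D K w = some r) :
    Modk D X K (evalWord X w) r := by
  simp only [nfT] at h
  split at h
  · simp at h
  · rename_i r' hr
    split at h
    · rename_i hn
      simp only [Option.some.injEq] at h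
      subst h
      simp only [Bool.and_eq_true, List.all_eq_true, Nat.blt_eq] at hn
      obtain ⟨m, hm, e⟩ := modk_word hs H hcn (K := K) hw
      obtain ⟨m', hm', e'⟩ := redT_sound hs H hcn _ (fun b hb =>
        ⟨Nat.le_of_ble_eq_true (List.mem_filter.mp hb).2, hw b (List.mem_filter.mp hb).1⟩) hr
      exact ⟨norm_of_isNorm D hn.1, hn.2, m' * m, mul_mem hm' hm, by rw [e, show evalWord X (pref K w) = _ from e', mul_assoc]⟩
    · simp at h

include hcn in
theorem modk_mulT {k : ℕ} {a b : E} {u v r : List ℕ} (ha : Modk D X k a u) (hb : Modk D X k b v)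
    (h : nfT D k (u ++ v) = some r) : Modk D X k (a * b) r := by
  obtain ⟨nr, br, p, hp, ep⟩ := nfT_sound hs H hcn (fun c hc => by
    rcases List.mem_append.mp hc with hc | hc
    · exact (ha.1.2 c hc).2
    · exact (hb.1.2 c hc).2) h
  obtain ⟨nu, bu, m, hm, rfl⟩ := ha
  obtain ⟨nv, bv, n, hn, rfl⟩ := hb
  obtain ⟨m', hm', em⟩ := past_word hs H hcn (fun c hc => ⟨bv c hc, (nv.2 c hc).2⟩) hm
  refine ⟨nr, br, p * (m' * n), mul_mem hp (mul_mem hm' hn), ?_⟩
  calc evalWord X u * m * (evalWord X v * n) = evalWord X u * (m * evalWord X v) * n := by group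
    _ = evalWord X u * evalWord X v * (m' * n) := by rw [em]; group
    _ = evalWord X (u ++ v) * (m' * n) := by rw [evalWord_append]
    _ = _ := by rw [ep]; group

include hcn in
/-- Square roots of a central target are conjugate to listed words. -/
theorem mem_levels {target : List ℕ} (ht : D.Norm 0 target)
    (htc : ∀ b : E, b * evalWord X target = evalWord X target * b)
    {lev : ℕ → List (List ℕ)} {moves : ℕ → List (List ℕ × ℕ)} (h0 : [] ∈ lev 0)
    (hstep : ∀ k < D.n, stepOK D target k (lev k) (moves k) (lev (k + 1)) = true)
    {a : E} (ha : a ∈ sub D X) (h : a * a = evalWord X target) :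
    ∀ k, k ≤ D.n → ∃ c ∈ sub D X, ∃ u ∈ lev k, Modk D X k (c⁻¹ * a * c) u
  | 0, _ => by
    refine ⟨1, one_mem _, [], h0, ?_⟩
    obtain ⟨u, hu, -⟩ := modk_exists hs H (k := 0) ha
    cases u with
    | nil => rw [inv_one, one_mul, mul_one]; exact hu
    | cons b w => exact absurd (hu.2.1 b (by simp)) (by omega)
  | k + 1, hk => by
    obtain ⟨c, hc, u, hu, hmod⟩ := mem_levels ht htc h0 hstep ha h k (by omega)
    set a' := c⁻¹ * a * c with ha'
    have ha'S : a' ∈ sub D X := mul_mem (mul_mem (inv_mem hc) ha) hc
    obtain ⟨u1, hu1, v, hv, ev, rfl⟩ := modk_exists hs H (k := k + 1) ha'S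
    have hu' : pref k v = u := by
      refine modk_unique hs H ?_ hmod
      rw [ev]; exact modk_eval hs H hv
    have hmem : pref (k + 1) v ∈ cands k (lev k) := by
      simp only [cands, List.mem_flatMap]
      refine ⟨u, hu, ?_⟩
      rcases pref_succ k hv.1 with h' | h' <;> rw [h', hu'] <;> simp
    have hs' := hstep k (by omega)
    simp only [stepOK, Bool.and_eq_true, List.all_eq_true, beq_iff_eq, Nat.blt_eq] at hs'
    obtain ⟨⟨hL', hlen⟩, hall⟩ := hs'
    obtain ⟨i, hi, ei⟩ := List.getElem_of_mem hmem
    have hx := hall ((cands k (lev k))[i], (moves k)[i]'(by omega))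
      (List.mem_iff_getElem.mpr ⟨i, by simp [hlen]; exact hi, by simp⟩)
    simp only [Bool.or_eq_true, Bool.and_eq_true, List.all_eq_true, Nat.blt_eq] at hx
    rw [ei] at hx
    have hsq : a' * a' = evalWord X target := by
      rw [ha', show c⁻¹ * a * c * (c⁻¹ * a * c) = c⁻¹ * (a * a) * c by group, h, mul_assoc, ← htc c,
        inv_mul_cancel_left]
    rcases hx with hx | ⟨⟨hcw, hil⟩, hx⟩
    · exfalso
      split at hx
      · simp at hx
      · rename_i p hp
        have hmul := modk_mulT hs H hcn hu1 hu1 hp
        rw [hsq] at hmul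
        rw [modk_unique hs H hmul (modk_eval hs H ht)] at hx
        simp at hx
    · set cw := ((moves k)[i]'(by omega)).1 with hcwd
      set r := (lev (k + 1)).getD ((moves k)[i]'(by omega)).2 [] with hr
      have hrmem : r ∈ lev (k + 1) := by
        rw [hr, List.getD_eq_getElem _ _ hil]
        exact List.getElem_mem hil
      obtain ⟨hrn, hrb⟩ := hL' r hrmem
      have nrr := norm_of_isNorm D hrn
      have hc2 : evalWord X cw ∈ sub D X := eval_mem_sub H fun b hb => (hcw b hb).1
      refine ⟨c * evalWord X cw, mul_mem hc hc2, r, hrmem, ?_⟩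
      split at hx
      · rename_i p q hp hq
        rw [beq_iff_eq] at hx
        subst hx
        obtain ⟨-, -, m1, hm1, e1⟩ := hu1
        obtain ⟨m2, hm2, e2⟩ := past_word hs H hcn (fun b hb => ⟨(hcw b hb).2, (hcw b hb).1⟩) hm1
        have f1 := nfT_sound hs H hcn (fun b hb => by
          rcases List.mem_append.mp hb with hb | hb
          · exact (hv.2 b (List.mem_filter.mp hb).1).2
          · exact (hcw b hb).1) hp
        have f2 := nfT_sound hs H hcn (fun b hb => by
          rcases List.mem_append.mp hb with hb | hb
          · exact (hcw b hb).1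
          · exact (nrr.2 b hb).2) hq
        obtain ⟨-, -, n1, hn1, g1⟩ := f1
        obtain ⟨-, -, n2, hn2, g2⟩ := f2
        rw [evalWord_append] at g1 g2
        refine ⟨nrr, hrb, n2⁻¹ * n1 * m2,
          mul_mem (mul_mem (inv_mem_high hs H hn2) hn1) hm2, ?_⟩
        have hp' : evalWord X p = evalWord X cw * evalWord X r * n2⁻¹ := by rw [g2]; group
        calc (c * evalWord X cw)⁻¹ * a * (c * evalWord X cw)
            = (evalWord X cw)⁻¹ * (a' * evalWord X cw) := by rw [ha']; group
          _ = (evalWord X cw)⁻¹ * (evalWord X (pref (k + 1) v) * evalWord X cw * m2) := by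
              rw [e1, mul_assoc _ m1, e2]; group
          _ = _ := by rw [g1, hp']; group
      · simp at hx

include hcn in
theorem mem_cenTree {a : E} (ha : a ∈ sub D X) (h : ∀ i < D.n, a * X i = X i * a) :
    ∀ k, k ≤ D.n → ∀ u, Modk D X k a u → u ∈ cenTree D k
  | 0, _, u, hu => by
    cases u with
    | nil => simp [cenTree]
    | cons b w => exact absurd (hu.2.1 b (by simp)) (by omega)
  | k + 1, hk, u, hu => by
    obtain ⟨u0, hu0, v, hv, ev, rfl⟩ := modk_exists hs H (k := k) ha
    obtain ⟨u1, hu1, v', hv', ev', rfl⟩ := modk_exists hs H (k := k + 1) ha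
    rw [norm_inj hs H hv' hv (ev'.symm.trans ev)] at hu1
    rw [modk_unique hs H hu hu1]
    have ih := mem_cenTree ha h k (by omega) _ hu0
    simp only [cenTree, List.mem_filter, List.mem_append, List.mem_map]
    refine ⟨?_, ?_⟩
    · have key := pref_succ k hv.1
      rcases key with h' | h'
      · exact Or.inl (h' ▸ ih)
      · exact Or.inr ⟨_, ih, h'.symm⟩
    · rw [List.all_eq_true]
      intro i hi
      rw [List.mem_range] at hi
      split
      · rename_i p q hp hq
        have hgen : evalWord X [i] ∈ sub D X := by
          rw [show evalWord X [i] = X i by simp [evalWord]]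
          exact Subgroup.subset_closure ⟨i, hi, rfl⟩
        obtain ⟨i1, hi1, i', ni', ei', rfl⟩ := modk_exists hs H (k := k + 1) hgen
        rw [← norm_inj hs H ⟨List.pairwise_singleton _ _, by simpa using hi⟩ ni' ei'] at hi1
        have red' : ∀ {s : List ℕ}, Modk D X (k + 1) (evalWord X [i]) (pref (k + 1) [i]) →
            i ≤ k → pref (k + 1) [i] = [i] := fun _ hle => by simp [pref]; omega
        by_cases hle : i ≤ k
        · rw [red' (s := []) hi1 hle] at hi1
          rw [show evalWord X [i] = X i by simp [evalWord]] at hi1
          have h1 := modk_mul hs H hcn hu1 hi1 hp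
          have h2 := modk_mul hs H hcn hi1 hu1 hq
          rw [h i hi] at h1
          rw [modk_unique hs H h1 h2, beq_self_eq_true]
        · -- a later generator: both sides reduce to the same prefix
          have hm : X i ∈ high D X (⊥ : Subgroup E) (k + 1) := gen_mem_high (by omega) hi
          obtain ⟨nu, bu, m, hm', ea⟩ := hu1
          simp only [nfp, Option.map_eq_some_iff] at hp hq
          obtain ⟨w1, hw1, rfl⟩ := hp
          obtain ⟨w2, hw2, rfl⟩ := hq
          obtain ⟨e1, n1⟩ := nform_sound H hw1
          obtain ⟨e2, n2⟩ := nform_sound H hw2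
          have hsu : evalWord X (pref (k + 1) v) ∈ sub D X := by
            obtain ⟨z, -, z', -, -, -⟩ := modk_exists hs H (k := k + 1) ha
            have : ∀ w : List ℕ, (∀ c ∈ w, c < D.n) → evalWord X w ∈ sub D X := by
              intro w hw
              induction w with
              | nil => exact one_mem _
              | cons c t iht =>
                exact mul_mem (Subgroup.subset_closure ⟨c, hw c (by simp), rfl⟩)
                  (iht fun d hd => hw d (List.mem_cons_of_mem _ hd))
            exact this _ fun c hc => (nu.2 c hc).2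
          obtain ⟨m'', hm'', em''⟩ := past_word hs H hcn (fun c hc => ⟨bu c hc, (nu.2 c hc).2⟩) hm
          have hxi : X i ∈ sub D X := Subgroup.subset_closure ⟨i, hi, rfl⟩
          have m1 : Modk D X (k + 1) (evalWord X w1) (pref (k + 1) v) :=
            ⟨nu, bu, X i, hm, by rw [← e1, evalWord_append]; simp [evalWord]⟩
          have m2 : Modk D X (k + 1) (evalWord X w2) (pref (k + 1) v) :=
            ⟨nu, bu, m'', hm'', by rw [← e2]; exact em''⟩
          have fix' : ∀ {w : List ℕ}, D.Norm 0 w → evalWord X w ∈ sub D X →
              Modk D X (k + 1) (evalWord X w) (pref (k + 1) w) := by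
            intro w hw hws
            obtain ⟨w', hw', w'', nw'', ew'', rfl⟩ := modk_exists hs H (k := k + 1) hws
            rwa [← norm_inj hs H hw nw'' ew''] at hw'
          have s1 : evalWord X w1 ∈ sub D X := by
            rw [← e1, evalWord_append]
            exact mul_mem hsu (by simpa [evalWord] using hxi)
          have s2 : evalWord X w2 ∈ sub D X := by
            rw [← e2]
            exact mul_mem hxi hsu
          rw [modk_unique hs H (fix' n1 s1) m1, modk_unique hs H (fix' n2 s2) m2,
            beq_self_eq_true]
      · rfl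

end Cfsg.Agent.RuStandard47
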